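import Mathlib

/-!
An odd normal subgroup with two commuting involutions permuted by an element of order three.
-/

set_option autoImplicit false

namespace CfsgLib.SEightThree.WrLocal

variable {Q : Type*} [Group Q] [Finite Q]

/-- Fixed points decide that the odd normal subgroup is trivial. -/
theorem eq_bot_of_fixed (O : Subgroup Q) [O.Normal] (hodd : Odd (Nat.card O))
    {b v₁ v₂ s : Q} (hb : b * b = 1) (h1 : v₁ * v₁ = 1) (h2 : v₂ * v₂ = 1)
    (h12 : v₁ * v₂ = v₂ * v₁) (hs1 : s * v₁ * s⁻¹ = v₂) (hs2 : s * v₂ * s⁻¹ = v₁ * v₂)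
    (hs3 : s * s * s = 1) (fb : ∀ x ∈ O, b * x = x * b → x = 1)
    (f12 : ∀ x ∈ O, v₁ * x = x * v₁ → v₂ * x = x * v₂ → x = 1)
    (fs : ∀ x ∈ O, s * x = x * s → x = 1) : O = ⊥ := by
  have hn : ∀ q : Q, ∀ x ∈ O, q * x * q⁻¹ ∈ O := fun q x hx =>
    Subgroup.Normal.conj_mem inferInstance x hx q
  have hbi : b⁻¹ = b := inv_eq_of_mul_eq_one_right hb
  -- `b` inverts everything
  have hinv : ∀ x ∈ O, b * x * b⁻¹ = x⁻¹ := by
    have hf : Function.Injective fun x : O =>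
        (⟨(x : Q)⁻¹ * (b * x * b⁻¹), mul_mem (inv_mem x.2) (hn b _ x.2)⟩ : O) := by
      intro x y h
      have h' : (x : Q)⁻¹ * (b * x * b⁻¹) = (y : Q)⁻¹ * (b * y * b⁻¹) := congrArg Subtype.val h
      have h3 := fb _ (mul_mem y.2 (inv_mem x.2)) (by
        calc b * ((y : Q) * (x : Q)⁻¹)
            = (y : Q) * ((y : Q)⁻¹ * (b * y * b⁻¹)) * b * (x : Q)⁻¹ := by group
          _ = (y : Q) * ((x : Q)⁻¹ * (b * x * b⁻¹)) * b * (x : Q)⁻¹ := by rw [h']
          _ = _ := by group)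
      exact Subtype.ext (mul_inv_eq_one.1 h3).symm
    intro z hz
    obtain ⟨x, hx⟩ := Finite.injective_iff_surjective.1 hf ⟨z, hz⟩
    have hx' : (x : Q)⁻¹ * (b * x * b⁻¹) = z := congrArg Subtype.val hx
    rw [← hx', hbi]
    calc b * ((x : Q)⁻¹ * (b * x * b)) * b = b * (x : Q)⁻¹ * b * x * (b * b) := by group
      _ = b⁻¹ * (x : Q)⁻¹ * b⁻¹ * x := by rw [hb, mul_one, hbi]
      _ = _ := by rw [hbi, mul_inv_rev, mul_inv_rev, mul_inv_rev, inv_inv, hbi]; group
  have hab : ∀ x ∈ O, ∀ y ∈ O, x * y = y * x := by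
    intro x hx y hy
    have e : b * (x * y) * b⁻¹ = x⁻¹ * y⁻¹ := by
      rw [← hinv x hx, ← hinv y hy]; group
    rw [hinv _ (mul_mem hx hy)] at e
    calc x * y = ((x * y)⁻¹)⁻¹ := (inv_inv _).symm
      _ = y * x := by rw [e, mul_inv_rev, inv_inv, inv_inv]
  have hsq : ∀ x ∈ O, x * x = 1 → x = 1 := by
    intro x hx h
    by_contra hne
    have ho : orderOf (⟨x, hx⟩ : O) = 2 := orderOf_eq_prime (p := 2)
      (Subtype.ext (by show x ^ 2 = 1; rw [pow_two, h])) fun e => hne (congrArg Subtype.val e)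
    exact (Nat.not_even_iff_odd.2 hodd) (even_iff_two_dvd.2 (ho ▸ orderOf_dvd_natCard _))
  have hv1i : v₁⁻¹ = v₁ := inv_eq_of_mul_eq_one_right h1
  have hv2i : v₂⁻¹ = v₂ := inv_eq_of_mul_eq_one_right h2
  have hs4 : s * (v₁ * v₂) * s⁻¹ = v₁ := by
    calc s * (v₁ * v₂) * s⁻¹ = (s * v₁ * s⁻¹) * (s * v₂ * s⁻¹) := by group
      _ = (v₂ * v₁) * v₂ := by rw [hs1, hs2]; group
      _ = v₁ := by rw [← h12, mul_assoc, h2, mul_one]
  have move : ∀ u w x : Q, s * u * s⁻¹ = w → u * x = x * u →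
      w * (s * x * s⁻¹) = (s * x * s⁻¹) * w := by
    intro u w x hu hx
    rw [← hu]
    calc s * u * s⁻¹ * (s * x * s⁻¹) = s * (u * x) * s⁻¹ := by group
      _ = s * (x * u) * s⁻¹ := by rw [hx]
      _ = _ := by group
  -- the centralizers of the involutions are trivial
  have f1 : ∀ x ∈ O, v₁ * x = x * v₁ → x = 1 := by
    intro x hx hc
    obtain ⟨y, rfl⟩ : ∃ y, y = x := ⟨x, rfl⟩
    set p := s * y * s⁻¹ with hp
    set q := s * p * s⁻¹ with hq
    have hpO : p ∈ O := hn s y hx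
    have hqO : q ∈ O := hn s p hpO
    have hp2 : v₂ * p = p * v₂ := move _ _ _ hs1 hc
    have hq3 : v₁ * v₂ * q = q * (v₁ * v₂) := move _ _ _ hs2 hp2
    have hsq3 : s * q * s⁻¹ = y := by
      calc s * q * s⁻¹ = (s * s * s) * y * (s * s * s)⁻¹ := by rw [hq, hp]; group
        _ = y := by rw [hs3]; group
    have ht : y * p * q = 1 := fs _ (mul_mem (mul_mem hx hpO) hqO) (by
      calc s * (y * p * q) = (s * y * s⁻¹) * (s * p * s⁻¹) * (s * q * s⁻¹) * s := by group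
        _ = p * q * y * s := by rw [hsq3]
        _ = y * p * q * s := by rw [hab (p * q) (mul_mem hpO hqO) y hx, mul_assoc y p q])
    -- `v₁` inverts the two other components
    have inv1 : ∀ z ∈ O, (v₂ * z = z * v₂ ∨ v₁ * v₂ * z = z * (v₁ * v₂)) →
        v₁ * z * v₁⁻¹ = z⁻¹ := by
      intro z hz hzc
      set z' := v₁ * z * v₁⁻¹ with hz'
      have hz'O : z' ∈ O := hn _ _ hz
      have e1 : v₁ * (z' * z) * v₁⁻¹ = z' * z := by
        calc v₁ * (z' * z) * v₁⁻¹ = (v₁ * v₁) * z * (v₁ * v₁)⁻¹ * z' := by rw [hz']; group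
          _ = z * z' := by rw [h1, one_mul, inv_one, mul_one]
          _ = z' * z := hab z hz z' hz'O
      have c1 : v₁ * (z' * z) = z' * z * v₁ := mul_inv_eq_iff_eq_mul.1 e1
      have c2 : v₂ * (z' * z) = z' * z * v₂ := by
        rcases hzc with hzc | hzc
        · have : v₂ * z' = z' * v₂ := by
            rw [hz', hv1i]
            calc v₂ * (v₁ * z * v₁) = v₁ * (v₂ * z) * v₁ := by
                  rw [← mul_assoc, ← mul_assoc, ← h12]; group
              _ = v₁ * z * (v₂ * v₁) := by rw [hzc]; group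
              _ = _ := by rw [← h12]; group
          exact ((show Commute v₂ z' from this).mul_right hzc).eq
        · have hcv : Commute (v₁ * v₂) v₁ := by
            show v₁ * v₂ * v₁ = v₁ * (v₁ * v₂)
            rw [mul_assoc, h12]
          have hcz : Commute (v₁ * v₂) z := hzc
          have h' : Commute (v₁ * v₂) (z' * z) :=
            ((hcv.mul_right hcz).mul_right hcv.inv_right).mul_right hcz
          have := (show Commute v₁ (z' * z) from c1).mul_left h'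
          rwa [← mul_assoc v₁ v₁ v₂, h1, one_mul] at this
      exact eq_inv_of_mul_eq_one_left (f12 _ (mul_mem hz'O hz) c1 c2)
    have e : y * p⁻¹ * q⁻¹ = 1 := by
      calc y * p⁻¹ * q⁻¹ = (v₁ * y * v₁⁻¹) * (v₁ * p * v₁⁻¹) * (v₁ * q * v₁⁻¹) := by
            rw [inv1 p hpO (Or.inl hp2), inv1 q hqO (Or.inr hq3), hc, mul_inv_cancel_right]
        _ = v₁ * (y * p * q) * v₁⁻¹ := by group
        _ = 1 := by rw [ht, mul_one, mul_inv_cancel]
    refine hsq y hx ?_
    have e' : y = q * p := by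
      have := e
      rw [mul_assoc, ← mul_inv_rev, mul_inv_eq_one] at this
      exact this
    calc y * y = y * (q * p) := by rw [← e']
      _ = y * (p * q) := by rw [hab q hqO p hpO]
      _ = 1 := by rw [← mul_assoc, ht]
  have back : ∀ u w x : Q, x ∈ O → s * u * s⁻¹ = w → w * x = x * w →
      u * (s⁻¹ * x * s) = (s⁻¹ * x * s) * u := by
    intro u w x _ hu hx
    rw [← hu] at hx
    calc u * (s⁻¹ * x * s) = s⁻¹ * (s * u * s⁻¹ * x) * s := by group
      _ = _ := by rw [hx]; group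
  have f2 : ∀ x ∈ O, v₂ * x = x * v₂ → x = 1 := by
    intro x hx hc
    have h := f1 _ (by simpa using hn s⁻¹ x hx) (back _ _ x hx hs1 hc)
    calc x = s * (s⁻¹ * x * s) * s⁻¹ := by group
      _ = 1 := by rw [h]; group
  have f3 : ∀ x ∈ O, v₁ * v₂ * x = x * (v₁ * v₂) → x = 1 := by
    intro x hx hc
    exact conj_eq_one_iff.1 (f1 _ (hn s x hx) (move _ _ _ hs4 hc))
  have inv_of : ∀ v : Q, v * v = 1 → (∀ x ∈ O, v * x = x * v → x = 1) →
      ∀ x ∈ O, v * x * v⁻¹ = x⁻¹ := by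
    intro v hv fv x hx
    refine eq_inv_of_mul_eq_one_left (fv _ (mul_mem (hn v x hx) hx) (mul_inv_eq_iff_eq_mul.1 ?_))
    calc v * (v * x * v⁻¹ * x) * v⁻¹ = (v * v) * x * (v * v)⁻¹ * (v * x * v⁻¹) := by group
      _ = x * (v * x * v⁻¹) := by rw [hv, one_mul, inv_one, mul_one]
      _ = _ := hab x hx _ (hn v x hx)
  refine (Subgroup.eq_bot_iff_forall O).2 fun x hx => f3 x hx (mul_inv_eq_iff_eq_mul.1 ?_)
  calc v₁ * v₂ * x * (v₁ * v₂)⁻¹ = v₁ * (v₂ * x * v₂⁻¹) * v₁⁻¹ := by group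
    _ = x := by rw [inv_of v₂ h2 f2 x hx, inv_of v₁ h1 f1 _ (inv_mem hx), inv_inv]

end CfsgLib.SEightThree.WrLocal
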