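import Mathlib

/-!
Linear maps of a vector space of order sixteen, encoded by the images of a basis, and the
certificate that no map in question moves an element of a factor onto a mixed element.

The number `4 * u + v` stands for the pair of the elements with numbers `u`, `v` in the two
four-groups; addition is exclusive or.
-/

set_option autoImplicit false
set_option maxRecDepth 100000

namespace CfsgLib.SEightThree.WrLocal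

/-- The images of `1, 2, 4, 8`. -/
abbrev Mp : Type := ℕ × ℕ × ℕ × ℕ

/-- The linear map with the given images of the basis. -/
def lin (x : Mp) (i : ℕ) : ℕ :=
  (if i % 2 = 1 then x.1 else 0) ^^^ (if i / 2 % 2 = 1 then x.2.1 else 0) ^^^
    (if i / 4 % 2 = 1 then x.2.2.1 else 0) ^^^ (if i / 8 % 2 = 1 then x.2.2.2 else 0)

/-- Composition. -/
def cmp (x y : Mp) : Mp := (lin x y.1, lin x y.2.1, lin x y.2.2.1, lin x y.2.2.2)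

def oneM : Mp := (1, 2, 4, 8)
def zM : Mp := (3, 1, 4, 8)
def dM : Mp := (1, 2, 12, 4)
def rM : Mp := (1, 3, 4, 12)
def gM : Mp := (4, 8, 1, 2)
def pM : Mp := cmp zM dM
def mM : Mp := cmp zM (cmp dM dM)

/-- The images of the elements of order dividing three. -/
def DM : List Mp :=
  [oneM, zM, cmp zM zM, dM, cmp dM dM, pM, mM, cmp (cmp zM zM) dM, cmp (cmp zM zM) (cmp dM dM)]

/-- All images of the known part of the normalizer. -/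
def PM : List Mp :=
  DM ++ DM.map (fun x => cmp x rM) ++ DM.map (fun x => cmp x gM) ++
    DM.map (fun x => cmp x (cmp rM gM))

/-- The product of a word in the five letters, coded in base six. -/
def word (h : Mp) : ℕ → ℕ → Mp
  | 0, _ => oneM
  | k + 1, n =>
    if n = 0 then oneM else
      cmp (match n % 6 with
        | 1 => h
        | 2 => zM
        | 3 => dM
        | 4 => rM
        | _ => gM) (word h k (n / 6))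

/-- A map which cannot be induced by the normalizer. -/
def bad (y : Mp) : Bool :=
  (decide (cmp y zM = cmp zM y) && !decide (y ∈ DM)) ||
    ((decide (cmp y pM = cmp pM y) || decide (cmp y mM = cmp mM y)) &&
      !decide (cmp y y ∈ DM))

/-- The map with index `k` sending `4` to `5`. -/
def mapAt (k : ℕ) : Mp := (k / 256 % 16, k / 16 % 16, 5, k % 16)

/-- The entry is a valid refutation of the map with index `k`. -/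
def okAt (k n : ℕ) : Bool :=
  bad (word (mapAt k) 16 n) || (List.range 15).any (fun i => decide (lin (mapAt k) (i + 1) = 0))

/-- The entries refute consecutive indices. -/
def checkFrom : ℕ → List ℕ → Bool
  | _, [] => true
  | k, n :: l => okAt k n && checkFrom (k + 1) l

theorem checkFrom_spec : ∀ (l : List ℕ) (k : ℕ), checkFrom k l = true →
    ∀ j, j < l.length → ∃ n, okAt (k + j) n = true := by
  intro l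
  induction l with
  | nil => intro k _ j hj; simp at hj
  | cons n l ih =>
    intro k h j hj
    simp only [checkFrom, Bool.and_eq_true] at h
    cases j with
    | zero => exact ⟨n, h.1⟩
    | succ j =>
      obtain ⟨m, hm⟩ := ih (k + 1) h.2 j (Nat.lt_of_succ_lt_succ hj)
      exact ⟨m, by rwa [show k + (j + 1) = k + 1 + j by omega]⟩

def cert0 : List ℕ := [
  0, 0, 0, 0, 0, 0, 0, 0,
  0, 0, 0, 0, 0, 0, 0, 0,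
  0, 0, 0, 0, 0, 0, 0, 0,
  0, 0, 0, 0, 0, 0, 0, 0,
  0, 0, 0, 0, 0, 0, 0, 0,
  0, 0, 0, 0, 0, 0, 0, 0,
  0, 0, 0, 0, 0, 0, 0, 0,
  0, 0, 0, 0, 0, 0, 0, 0,
  0, 0, 0, 0, 0, 0, 0, 0,
  0, 0, 0, 0, 0, 0, 0, 0,
  0, 0, 0, 0, 0, 0, 0, 0,
  0, 0, 0, 0, 0, 0, 0, 0,
  0, 0, 0, 0, 0, 0, 0, 0,
  0, 0, 0, 0, 0, 0, 0, 0,
  0, 0, 0, 0, 0, 0, 0, 0,
  0, 0, 0, 0, 0, 0, 0, 0,
  0, 0, 0, 0, 0, 0, 0, 0,
  0, 0, 0, 0, 0, 0, 0, 0,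
  0, 0, 0, 0, 0, 0, 0, 0,
  0, 0, 0, 0, 0, 0, 0, 0,
  0, 0, 0, 0, 0, 0, 0, 0,
  0, 0, 0, 0, 0, 0, 0, 0,
  0, 0, 0, 0, 0, 0, 0, 0,
  0, 0, 0, 0, 0, 0, 0, 0,
  0, 0, 0, 0, 0, 0, 0, 0,
  0, 0, 0, 0, 0, 0, 0, 0,
  0, 0, 0, 0, 0, 0, 0, 0,
  0, 0, 0, 0, 0, 0, 0, 0,
  0, 0, 0, 0, 0, 0, 0, 0,
  0, 0, 0, 0, 0, 0, 0, 0,
  0, 0, 0, 0, 0, 0, 0, 0,
  0, 0, 0, 0, 0, 0, 0, 0
]

theorem cert0_ok : checkFrom 0 cert0 = true := by decide +kernel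

theorem cert0_length : cert0.length = 256 := by decide +kernel

def cert1 : List ℕ := [
  0, 0, 0, 0, 0, 0, 0, 0,
  0, 0, 0, 0, 0, 0, 0, 0,
  0, 0, 0, 0, 0, 0, 0, 0,
  0, 0, 0, 0, 0, 0, 0, 0,
  0, 0, 0, 0, 0, 0, 0, 0,
  307, 307, 8, 8, 49, 49, 1561, 1561,
  0, 0, 0, 0, 0, 0, 0, 0,
  307, 307, 1561, 1561, 49, 49, 11, 49,
  0, 0, 0, 0, 0, 0, 0, 0,
  0, 0, 0, 0, 0, 0, 0, 0,
  0, 0, 0, 0, 0, 0, 0, 0,
  0, 0, 0, 0, 0, 0, 0, 0,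
  0, 0, 0, 0, 0, 0, 0, 0,
  46, 46, 407, 404, 61, 61, 1687, 283,
  0, 0, 0, 0, 0, 0, 0, 0,
  46, 46, 1687, 283, 61, 61, 404, 407,
  0, 0, 2242, 9619, 0, 0, 49, 9619,
  0, 0, 9476, 1795, 0, 0, 9643, 9427,
  0, 0, 9619, 1882, 0, 0, 9619, 301,
  0, 0, 9622, 1915, 0, 0, 9479, 9859,
  0, 0, 10052, 9622, 0, 0, 9691, 10219,
  1777, 46, 0, 0, 61, 9571, 0, 0,
  0, 0, 9622, 10052, 0, 0, 10711, 10651,
  64219, 46, 0, 0, 61, 271, 0, 0,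
  0, 0, 9619, 49, 0, 0, 9619, 2096,
  0, 0, 9874, 9874, 0, 0, 1651, 1651,
  0, 0, 301, 9619, 0, 0, 1882, 9619,
  0, 0, 9476, 9874, 0, 0, 1783, 2215,
  0, 0, 2005, 1915, 0, 0, 9872, 1651,
  46, 1777, 0, 0, 57415, 61, 0, 0,
  0, 0, 1993, 1783, 0, 0, 1651, 9872,
  46, 68107, 0, 0, 1639, 61, 0, 0
]

theorem cert1_ok : checkFrom 256 cert1 = true := by decide +kernel

theorem cert1_length : cert1.length = 256 := by decide +kernel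

def cert2 : List ℕ := [
  0, 0, 0, 0, 0, 0, 0, 0,
  0, 0, 0, 0, 0, 0, 0, 0,
  0, 0, 0, 0, 0, 0, 0, 0,
  55, 55, 1561, 1561, 44, 44, 10, 10,
  0, 0, 0, 0, 0, 0, 0, 0,
  0, 0, 0, 0, 0, 0, 0, 0,
  0, 0, 0, 0, 0, 0, 0, 0,
  332, 332, 1, 1, 7, 7, 9373, 9373,
  0, 0, 0, 0, 0, 0, 0, 0,
  2203, 2203, 11281, 10702, 343, 55, 1627, 1783,
  0, 0, 0, 0, 0, 0, 0, 0,
  0, 0, 0, 0, 0, 0, 0, 0,
  0, 0, 0, 0, 0, 0, 0, 0,
  55, 343, 1663, 1663, 9565, 9407, 11281, 11281,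
  0, 0, 0, 0, 0, 0, 0, 0,
  0, 0, 0, 0, 0, 0, 0, 0,
  0, 298, 0, 1987, 1699, 0, 403, 0,
  0, 9421, 0, 9379, 7, 0, 11083, 0,
  0, 343, 0, 1915, 11065, 0, 56221, 0,
  67, 0, 10759, 0, 0, 1567, 0, 334,
  0, 11131, 0, 55, 55, 0, 2437, 0,
  0, 55, 0, 9478, 56855, 0, 1555, 0,
  0, 1597, 0, 56134, 301, 0, 1564, 0,
  43, 0, 349, 0, 0, 1591, 0, 1579,
  0, 1783, 0, 1880, 298, 0, 2422, 0,
  9451, 0, 2431, 0, 0, 7, 0, 11062,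
  0, 14629, 0, 56221, 55, 0, 1783, 0,
  0, 391, 0, 1795, 355, 0, 349, 0,
  0, 260, 0, 9553, 1843, 0, 343, 0,
  343, 0, 9619, 0, 0, 56275, 0, 1555,
  0, 301, 0, 263, 1597, 0, 10702, 0,
  0, 43, 0, 334, 307, 0, 9463, 0
]

theorem cert2_ok : checkFrom 512 cert2 = true := by decide +kernel

theorem cert2_length : cert2.length = 256 := by decide +kernel

def cert3 : List ℕ := [
  0, 0, 0, 0, 0, 0, 0, 0,
  0, 0, 0, 0, 0, 0, 0, 0,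
  0, 0, 0, 0, 0, 0, 0, 0,
  307, 307, 1, 1, 7, 7, 1561, 1561,
  0, 0, 0, 0, 0, 0, 0, 0,
  55, 55, 1561, 1561, 44, 44, 10, 10,
  0, 0, 0, 0, 0, 0, 0, 0,
  0, 0, 0, 0, 0, 0, 0, 0,
  0, 0, 0, 0, 0, 0, 0, 0,
  55, 343, 1663, 1663, 1592, 1592, 57343, 63823,
  0, 0, 0, 0, 0, 0, 0, 0,
  0, 0, 0, 0, 0, 0, 0, 0,
  0, 0, 0, 0, 0, 0, 0, 0,
  0, 0, 0, 0, 0, 0, 0, 0,
  0, 0, 0, 0, 0, 0, 0, 0,
  2203, 2203, 12019, 56419, 343, 55, 1771, 1627,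
  0, 1915, 55, 0, 49, 0, 0, 14101,
  0, 55, 9391, 0, 11071, 0, 0, 1555,
  0, 265, 56083, 0, 49, 0, 0, 263,
  43, 0, 0, 349, 0, 406, 9463, 0,
  0, 343, 10663, 0, 9571, 0, 0, 61243,
  391, 0, 0, 10867, 0, 1567, 299, 0,
  0, 1810, 1987, 0, 9406, 0, 0, 1843,
  0, 9421, 9982, 0, 7, 0, 0, 10627,
  0, 49, 2437, 0, 10915, 0, 0, 343,
  343, 0, 0, 9478, 0, 9787, 1555, 0,
  0, 49, 1564, 0, 265, 0, 0, 56134,
  0, 43, 334, 0, 1561, 0, 0, 1579,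
  0, 56132, 14588, 0, 55, 0, 0, 10663,
  0, 67, 65191, 0, 319, 0, 0, 349,
  0, 1699, 403, 0, 1810, 0, 0, 11935,
  9451, 0, 0, 9379, 0, 7, 10627, 0
]

theorem cert3_ok : checkFrom 768 cert3 = true := by decide +kernel

theorem cert3_length : cert3.length = 256 := by decide +kernel

def cert4 : List ℕ := [
  0, 0, 0, 0, 0, 0, 0, 0,
  0, 0, 0, 0, 0, 0, 0, 0,
  0, 0, 0, 0, 0, 0, 0, 0,
  0, 0, 0, 0, 0, 0, 0, 0,
  0, 0, 0, 0, 0, 0, 0, 0,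
  1819, 2005, 9476, 2131, 2005, 2209, 2011, 9622,
  0, 0, 0, 0, 0, 0, 0, 0,
  2209, 2005, 2209, 1615, 319, 1819, 1993, 1615,
  0, 0, 0, 0, 0, 0, 0, 0,
  0, 0, 0, 0, 0, 0, 0, 0,
  0, 0, 0, 0, 0, 0, 0, 0,
  0, 0, 0, 0, 0, 0, 0, 0,
  0, 0, 0, 0, 0, 0, 0, 0,
  9658, 2005, 9391, 9479, 1855, 307, 9553, 9553,
  0, 0, 0, 0, 0, 0, 0, 0,
  307, 1855, 9476, 9658, 2005, 9658, 9658, 9658,
  0, 0, 2119, 2083, 0, 0, 2299, 355,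
  0, 0, 1, 55993, 0, 0, 7, 55993,
  0, 0, 298, 301, 0, 0, 55, 49,
  0, 0, 7, 2420, 0, 0, 7, 1703,
  0, 0, 10687, 1819, 0, 0, 307, 367,
  10052, 9872, 0, 0, 1993, 10219, 0, 0,
  0, 0, 1147, 271, 0, 0, 14095, 1855,
  10052, 9872, 0, 0, 1915, 10711, 0, 0,
  0, 0, 1867, 355, 0, 0, 1867, 1867,
  0, 0, 55993, 1, 0, 0, 55993, 7,
  0, 0, 49, 343, 0, 0, 301, 55,
  0, 0, 1700, 7, 0, 0, 1603, 7,
  0, 0, 271, 1855, 0, 0, 1147, 2431,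
  9622, 1651, 0, 0, 2005, 10651, 0, 0,
  0, 0, 307, 13459, 0, 0, 367, 1819,
  9622, 1651, 0, 0, 1783, 9691, 0, 0
]

theorem cert4_ok : checkFrom 1024 cert4 = true := by decide +kernel

theorem cert4_length : cert4.length = 256 := by decide +kernel

def cert5 : List ℕ := [
  0, 0, 0, 0, 0, 0, 0, 0,
  0, 0, 0, 0, 0, 0, 0, 0,
  0, 0, 0, 0, 0, 0, 0, 0,
  0, 0, 0, 0, 0, 0, 0, 0,
  0, 0, 0, 0, 0, 0, 0, 0,
  0, 0, 0, 0, 0, 0, 0, 0,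
  0, 0, 0, 0, 0, 0, 0, 0,
  0, 0, 0, 0, 0, 0, 0, 0,
  0, 0, 0, 0, 0, 0, 0, 0,
  0, 0, 0, 0, 0, 0, 0, 0,
  0, 0, 0, 0, 0, 0, 0, 0,
  0, 0, 0, 0, 0, 0, 0, 0,
  0, 0, 0, 0, 0, 0, 0, 0,
  0, 0, 0, 0, 0, 0, 0, 0,
  0, 0, 0, 0, 0, 0, 0, 0,
  0, 0, 0, 0, 0, 0, 0, 0,
  0, 0, 0, 0, 0, 0, 0, 0,
  0, 0, 0, 0, 0, 0, 0, 0,
  0, 0, 0, 0, 0, 0, 0, 0,
  0, 0, 0, 0, 0, 0, 0, 0,
  0, 0, 0, 0, 0, 0, 0, 0,
  0, 0, 0, 0, 0, 0, 0, 0,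
  0, 0, 0, 0, 0, 0, 0, 0,
  0, 0, 0, 0, 0, 0, 0, 0,
  0, 0, 0, 0, 0, 0, 0, 0,
  0, 0, 0, 0, 0, 0, 0, 0,
  0, 0, 0, 0, 0, 0, 0, 0,
  0, 0, 0, 0, 0, 0, 0, 0,
  0, 0, 0, 0, 0, 0, 0, 0,
  0, 0, 0, 0, 0, 0, 0, 0,
  0, 0, 0, 0, 0, 0, 0, 0,
  0, 0, 0, 0, 0, 0, 0, 0
]

theorem cert5_ok : checkFrom 1280 cert5 = true := by decide +kernel

theorem cert5_length : cert5.length = 256 := by decide +kernel

def cert6 : List ℕ := [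
  0, 0, 0, 0, 0, 0, 0, 0,
  0, 0, 0, 0, 0, 0, 0, 0,
  0, 0, 0, 0, 0, 0, 0, 0,
  406, 1663, 69001, 348883, 313, 67, 349, 379,
  0, 0, 0, 0, 0, 0, 0, 0,
  10018, 10018, 10018, 2131, 391, 67, 1603, 1843,
  0, 0, 0, 0, 0, 0, 0, 0,
  0, 0, 0, 0, 0, 0, 0, 0,
  0, 0, 0, 0, 0, 0, 0, 0,
  1675, 406, 2437, 2011, 295, 295, 9619, 9379,
  0, 0, 0, 0, 0, 0, 0, 0,
  0, 0, 0, 0, 0, 0, 0, 0,
  0, 0, 0, 0, 0, 0, 0, 0,
  0, 0, 0, 0, 0, 0, 0, 0,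
  0, 0, 0, 0, 0, 0, 0, 0,
  298, 298, 1573, 334, 67, 283, 64111, 10687,
  0, 296, 298, 0, 1702, 0, 0, 334,
  0, 9379, 7, 0, 9337, 0, 0, 10711,
  0, 1555, 1855, 0, 10054, 0, 0, 2347,
  84541, 0, 0, 2023567, 0, 299, 10, 0,
  0, 1687, 313, 0, 2227, 0, 0, 296,
  9619, 0, 0, 56035, 0, 1555, 370, 0,
  0, 1579, 1555, 0, 2215, 0, 0, 9607,
  0, 379, 1, 0, 9379, 0, 0, 55993,
  0, 9985, 307, 0, 296, 0, 0, 55,
  9442, 0, 0, 7, 0, 9337, 1783, 0,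
  0, 9691, 403, 0, 1555, 0, 0, 307,
  0, 14557, 338521, 0, 379, 0, 0, 10,
  0, 9775, 296, 0, 283, 0, 0, 313,
  0, 14518, 56098, 0, 1555, 0, 0, 370,
  0, 9403, 9379, 0, 2431, 0, 0, 307,
  334, 0, 0, 1, 0, 2419, 55993, 0
]

theorem cert6_ok : checkFrom 1536 cert6 = true := by decide +kernel

theorem cert6_length : cert6.length = 256 := by decide +kernel

def cert7 : List ℕ := [
  0, 0, 0, 0, 0, 0, 0, 0,
  0, 0, 0, 0, 0, 0, 0, 0,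
  0, 0, 0, 0, 0, 0, 0, 0,
  406, 1627, 334, 1573, 283, 67, 67711, 336283,
  0, 0, 0, 0, 0, 0, 0, 0,
  0, 0, 0, 0, 0, 0, 0, 0,
  0, 0, 0, 0, 0, 0, 0, 0,
  406, 1645, 2209, 2209, 1807, 1807, 2209, 2209,
  0, 0, 0, 0, 0, 0, 0, 0,
  9658, 9658, 9622, 9658, 67, 307, 1603, 1843,
  0, 0, 0, 0, 0, 0, 0, 0,
  0, 0, 0, 0, 0, 0, 0, 0,
  0, 0, 0, 0, 0, 0, 0, 0,
  298, 298, 63991, 10723, 67, 373, 335, 349,
  0, 0, 0, 0, 0, 0, 0, 0,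
  0, 0, 0, 0, 0, 0, 0, 0,
  0, 2227, 0, 349, 1687, 0, 307, 0,
  0, 9691, 0, 11497, 1555, 0, 370, 0,
  0, 9403, 0, 1615, 1579, 0, 1555, 0,
  334, 0, 1, 0, 0, 14083, 0, 55993,
  0, 9337, 0, 2347, 1555, 0, 1819, 0,
  0, 14089, 0, 338527, 379, 0, 10, 0,
  0, 1702, 0, 1555, 1808, 0, 55, 0,
  2011, 0, 7, 0, 0, 9667, 0, 1993,
  0, 283, 0, 373, 13351, 0, 379, 0,
  11203, 0, 10702, 0, 0, 1555, 0, 307,
  0, 9463, 0, 355, 2215, 0, 9379, 0,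
  0, 379, 0, 1, 2419, 0, 55993, 0,
  0, 1555, 0, 9907, 9337, 0, 403, 0,
  2425, 0, 2024647, 0, 0, 334, 0, 10,
  0, 1808, 0, 343, 9548, 0, 334, 0,
  0, 9442, 0, 7, 9343, 0, 12361, 0
]

theorem cert7_ok : checkFrom 1792 cert7 = true := by decide +kernel

theorem cert7_length : cert7.length = 256 := by decide +kernel

def cert8 : List ℕ := [
  0, 0, 0, 0, 0, 0, 0, 0,
  0, 0, 0, 0, 0, 0, 0, 0,
  0, 0, 13219, 1594, 0, 0, 56653, 296,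
  0, 0, 12019, 9379, 0, 0, 11503, 1555,
  0, 9619, 0, 46, 49, 0, 10633, 0,
  0, 1700, 0, 11203, 2005, 0, 9478, 0,
  0, 298, 1567, 0, 1915, 0, 0, 61,
  0, 1700, 9694, 0, 301, 0, 0, 9551,
  0, 0, 319, 67, 0, 0, 319, 319,
  0, 0, 55993, 1, 0, 0, 60763, 10,
  0, 0, 0, 0, 0, 0, 0, 0,
  0, 0, 0, 0, 0, 0, 0, 0,
  0, 9476, 7, 0, 349, 0, 0, 307,
  0, 9607, 1789, 0, 1783, 0, 0, 1555,
  0, 49, 0, 299, 1561, 0, 370, 0,
  0, 9607, 0, 301, 2005, 0, 10123, 0,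
  0, 0, 0, 0, 0, 0, 0, 0,
  0, 0, 0, 0, 0, 0, 0, 0,
  0, 0, 319, 13219, 0, 0, 1808, 56035,
  0, 0, 2431, 10702, 0, 0, 1555, 12019,
  0, 319, 0, 1567, 9985, 0, 61, 0,
  0, 9787, 0, 9691, 49, 0, 10198, 0,
  0, 9379, 46, 0, 301, 0, 0, 1771,
  0, 307, 58007, 0, 2005, 0, 0, 1591,
  0, 0, 319, 67, 0, 0, 319, 319,
  0, 0, 1, 55993, 0, 0, 10, 61303,
  0, 0, 0, 0, 0, 0, 0, 0,
  0, 0, 0, 0, 0, 0, 0, 0,
  0, 301, 1555, 0, 9355, 0, 0, 370,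
  0, 2419, 49, 0, 2005, 0, 0, 1699,
  0, 9619, 0, 7, 349, 0, 1555, 0,
  0, 9679, 0, 10861, 1591, 0, 319, 0
]

theorem cert8_ok : checkFrom 2048 cert8 = true := by decide +kernel

theorem cert8_length : cert8.length = 256 := by decide +kernel

def cert9 : List ℕ := [
  0, 0, 0, 0, 0, 0, 0, 0,
  0, 0, 0, 0, 0, 0, 0, 0,
  0, 0, 370, 9619, 0, 0, 7, 12811,
  0, 0, 10126, 9349, 0, 0, 1687, 1579,
  0, 2204, 0, 60164, 49, 0, 14539, 0,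
  7, 0, 61, 0, 0, 343, 0, 336157,
  0, 355, 1627, 0, 1628, 0, 0, 9619,
  1831, 0, 0, 10687, 0, 319, 46, 0,
  0, 0, 7, 298, 0, 0, 296, 47,
  0, 0, 66355, 301, 0, 0, 10855, 301,
  0, 0, 0, 0, 0, 0, 0, 0,
  0, 0, 0, 0, 0, 0, 0, 0,
  0, 9478, 13303, 0, 9547, 0, 0, 55,
  373, 0, 0, 8, 0, 12379, 337225, 0,
  0, 1993, 0, 1555, 10003, 0, 9620, 0,
  283, 0, 2024647, 0, 0, 298, 0, 7,
  0, 0, 9619, 370, 0, 0, 11947, 7,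
  0, 0, 9349, 1702, 0, 0, 9463, 283,
  0, 0, 0, 0, 0, 0, 0, 0,
  0, 0, 0, 0, 0, 0, 0, 0,
  0, 2204, 57791, 0, 301, 0, 0, 9367,
  7, 0, 0, 61, 0, 343, 67711, 0,
  0, 1855, 0, 1561, 1628, 0, 10198, 0,
  355, 0, 69067, 0, 0, 370, 0, 46,
  0, 0, 0, 0, 0, 0, 0, 0,
  0, 0, 0, 0, 0, 0, 0, 0,
  0, 0, 368, 7, 0, 0, 268, 370,
  0, 0, 49, 12793, 0, 0, 49, 1783,
  0, 1615, 0, 13303, 1699, 0, 55, 0,
  313, 0, 8, 0, 0, 14624, 0, 2024755,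
  0, 1615, 319, 0, 9565, 0, 0, 1699,
  1687, 0, 0, 2023567, 0, 1810, 7, 0
]

theorem cert9_ok : checkFrom 2304 cert9 = true := by decide +kernel

theorem cert9_length : cert9.length = 256 := by decide +kernel

def cert10 : List ℕ := [
  0, 0, 0, 0, 0, 0, 0, 0,
  0, 0, 0, 0, 0, 0, 0, 0,
  0, 0, 56419, 9691, 0, 0, 1687, 1555,
  13295, 1627, 0, 0, 313, 9571, 0, 0,
  0, 268, 0, 9478, 57583, 0, 373, 0,
  0, 1702, 0, 9478, 301, 0, 56203, 0,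
  0, 9370, 9379, 0, 44, 0, 0, 1990,
  49, 0, 0, 319, 0, 1855, 1579, 0,
  0, 0, 10201, 379, 0, 0, 334, 2347,
  56419, 2011, 0, 0, 9763, 1555, 0, 0,
  0, 0, 0, 0, 0, 0, 0, 0,
  0, 0, 0, 0, 0, 0, 0, 0,
  0, 10663, 332, 0, 7, 0, 0, 46,
  2422, 0, 0, 301, 0, 9370, 283, 0,
  0, 262, 0, 67, 338516, 0, 2275, 0,
  0, 61, 0, 1, 11059, 0, 337225, 0,
  0, 57583, 0, 307, 7, 0, 2422, 0,
  0, 1645, 0, 56419, 2005, 0, 9379, 0,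
  0, 67, 1664, 0, 1988, 0, 0, 56083,
  319, 0, 0, 403, 0, 67, 349, 0,
  0, 0, 0, 0, 0, 0, 0, 0,
  0, 0, 0, 0, 0, 0, 0, 0,
  0, 0, 1699, 1795, 0, 0, 12070, 79354,
  43, 298, 0, 0, 319, 2431, 0, 0,
  0, 67, 61, 0, 11299, 0, 0, 301,
  12032, 0, 0, 367, 0, 2347, 55, 0,
  0, 337220, 0, 9571, 1687, 0, 55, 0,
  0, 65207, 0, 338527, 46, 0, 7, 0,
  0, 0, 9787, 332, 0, 0, 1555, 1594,
  1699, 1915, 0, 0, 1603, 79354, 0, 0,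
  0, 0, 0, 0, 0, 0, 0, 0,
  0, 0, 0, 0, 0, 0, 0, 0
]

theorem cert10_ok : checkFrom 2560 cert10 = true := by decide +kernel

theorem cert10_length : cert10.length = 256 := by decide +kernel

def cert11 : List ℕ := [
  0, 0, 0, 0, 0, 0, 0, 0,
  0, 0, 0, 0, 0, 0, 0, 0,
  0, 0, 9379, 9403, 0, 0, 61207, 11983,
  43, 1579, 0, 0, 313, 1579, 0, 0,
  0, 371, 0, 1603, 1988, 0, 10735, 0,
  1831, 0, 1702, 0, 0, 283, 0, 298,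
  0, 9631, 298, 0, 7, 0, 0, 9548,
  0, 403, 11962, 0, 2005, 0, 0, 10219,
  0, 0, 332, 11509, 0, 0, 2059, 307,
  9403, 10003, 0, 0, 283, 61207, 0, 0,
  0, 0, 0, 0, 0, 0, 0, 0,
  0, 0, 0, 0, 0, 0, 0, 0,
  0, 63787, 10711, 0, 283, 0, 0, 55,
  0, 10687, 338521, 0, 46, 0, 0, 7,
  0, 370, 0, 61, 56041, 0, 49, 0,
  11962, 0, 367, 0, 0, 403, 0, 55,
  0, 47, 2437, 0, 9631, 0, 0, 313,
  0, 10126, 9476, 0, 49, 0, 0, 10687,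
  0, 1772, 0, 9440, 44, 0, 1990, 0,
  301, 0, 313, 0, 0, 1699, 0, 9443,
  0, 0, 2131, 10207, 0, 0, 1555, 283,
  11509, 298, 0, 0, 319, 10675, 0, 0,
  0, 0, 0, 0, 0, 0, 0, 0,
  0, 0, 0, 0, 0, 0, 0, 0,
  0, 56077, 0, 332, 7, 0, 46, 0,
  1699, 0, 49, 0, 0, 10687, 0, 1666,
  0, 262, 391, 0, 63787, 0, 0, 2275,
  0, 61, 1, 0, 14659, 0, 0, 2033755,
  0, 0, 0, 0, 0, 0, 0, 0,
  0, 0, 0, 0, 0, 0, 0, 0,
  0, 0, 379, 10675, 0, 0, 403, 334,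
  10207, 9379, 0, 0, 9763, 1555, 0, 0
]

theorem cert11_ok : checkFrom 2816 cert11 = true := by decide +kernel

theorem cert11_length : cert11.length = 256 := by decide +kernel

def cert12 : List ℕ := [
  0, 0, 0, 0, 0, 0, 0, 0,
  0, 0, 0, 0, 0, 0, 0, 0,
  0, 0, 296, 9775, 0, 0, 1594, 13219,
  0, 0, 9442, 56419, 0, 0, 1555, 9403,
  0, 49, 0, 10633, 1783, 0, 46, 0,
  1882, 0, 9622, 0, 0, 9427, 0, 1993,
  0, 9565, 61, 0, 298, 0, 0, 9415,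
  9991, 0, 0, 12577, 0, 301, 9343, 0,
  0, 0, 1831, 355, 0, 0, 391, 67,
  0, 0, 1, 55993, 0, 0, 10, 61303,
  0, 0, 0, 0, 0, 0, 0, 0,
  0, 0, 0, 0, 0, 0, 0, 0,
  0, 355, 1555, 0, 9619, 0, 0, 7,
  10039, 0, 0, 1789, 0, 2443, 307, 0,
  0, 1561, 0, 307, 49, 0, 1555, 0,
  2419, 0, 301, 0, 0, 10645, 0, 1699,
  0, 0, 1831, 406, 0, 0, 391, 67,
  0, 0, 55993, 1, 0, 0, 60763, 10,
  0, 0, 0, 0, 0, 0, 0, 0,
  0, 0, 0, 0, 0, 0, 0, 0,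
  0, 9373, 370, 0, 301, 0, 0, 307,
  1615, 0, 0, 49, 0, 12373, 10123, 0,
  0, 379, 0, 335, 9476, 0, 7, 0,
  1615, 0, 10861, 0, 0, 1591, 0, 1555,
  0, 0, 0, 0, 0, 0, 0, 0,
  0, 0, 0, 0, 0, 0, 0, 0,
  0, 0, 9775, 1808, 0, 0, 13219, 1883,
  0, 0, 56419, 9379, 0, 0, 9403, 1555,
  0, 1843, 0, 61, 1810, 0, 9385, 0,
  1700, 0, 10219, 0, 0, 49, 0, 9343,
  0, 301, 1771, 0, 1993, 0, 0, 46,
  1700, 0, 0, 57574, 0, 9451, 1591, 0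
]

theorem cert12_ok : checkFrom 3072 cert12 = true := by decide +kernel

theorem cert12_length : cert12.length = 256 := by decide +kernel

def cert13 : List ℕ := [
  0, 0, 0, 0, 0, 0, 0, 0,
  0, 0, 0, 0, 0, 0, 0, 0,
  0, 0, 11995, 7, 0, 0, 9619, 370,
  0, 0, 9349, 1702, 0, 0, 9463, 283,
  0, 49, 0, 12037, 2204, 0, 11062, 0,
  0, 7, 0, 61, 55, 0, 63991, 0,
  0, 1667, 9371, 0, 1819, 0, 0, 1993,
  0, 1867, 63991, 0, 370, 0, 0, 46,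
  0, 0, 268, 296, 0, 0, 298, 7,
  0, 0, 301, 56035, 0, 0, 301, 11965,
  0, 0, 0, 0, 0, 0, 0, 0,
  0, 0, 0, 0, 0, 0, 0, 0,
  0, 1699, 343, 0, 9391, 0, 0, 2215,
  0, 373, 8, 0, 12055, 0, 0, 337225,
  0, 13663, 0, 1699, 9607, 0, 307, 0,
  0, 1687, 0, 338527, 298, 0, 7, 0,
  0, 0, 0, 0, 0, 0, 0, 0,
  0, 0, 0, 0, 0, 0, 0, 0,
  0, 0, 370, 47, 0, 0, 7, 307,
  0, 0, 10702, 49, 0, 0, 1993, 49,
  0, 10123, 0, 343, 9478, 0, 2215, 0,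
  0, 313, 0, 8, 2011, 0, 2024623, 0,
  0, 9565, 9379, 0, 9643, 0, 0, 1555,
  0, 283, 338521, 0, 1810, 0, 0, 7,
  0, 0, 7, 11995, 0, 0, 370, 9619,
  0, 0, 2005, 1651, 0, 0, 1687, 1579,
  0, 0, 0, 0, 0, 0, 0, 0,
  0, 0, 0, 0, 0, 0, 0, 0,
  0, 301, 9367, 0, 2204, 0, 0, 9643,
  0, 7, 61, 0, 55, 0, 0, 11503,
  0, 2437, 0, 9391, 307, 0, 1561, 0,
  0, 319, 0, 356659, 370, 0, 46, 0
]

theorem cert13_ok : checkFrom 3328 cert13 = true := by decide +kernel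

theorem cert13_length : cert13.length = 256 := by decide +kernel

def cert14 : List ℕ := [
  0, 0, 0, 0, 0, 0, 0, 0,
  0, 0, 0, 0, 0, 0, 0, 0,
  0, 0, 1555, 283, 0, 0, 10003, 59929,
  1579, 11083, 0, 0, 2005, 313, 0, 0,
  0, 9595, 0, 373, 47, 0, 2437, 0,
  10126, 0, 9476, 0, 0, 301, 0, 10702,
  0, 44, 2227, 0, 9370, 0, 0, 9440,
  0, 49, 373, 0, 307, 0, 0, 9379,
  0, 0, 403, 307, 0, 0, 332, 9391,
  9379, 59929, 0, 0, 1555, 11983, 0, 0,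
  0, 0, 0, 0, 0, 0, 0, 0,
  0, 0, 0, 0, 0, 0, 0, 0,
  0, 7, 46, 0, 10663, 0, 0, 379,
  0, 1699, 301, 0, 9370, 0, 0, 1666,
  0, 64075, 0, 2095, 262, 0, 307, 0,
  61, 0, 1, 0, 0, 14659, 0, 337225,
  0, 11515, 301, 0, 370, 0, 0, 61,
  0, 13291, 367, 0, 403, 0, 0, 343,
  0, 283, 0, 343, 71563, 0, 1993, 0,
  336499, 0, 2024647, 0, 0, 46, 0, 7,
  0, 0, 331, 334, 0, 0, 379, 13295,
  2131, 9871, 0, 0, 56437, 283, 0, 0,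
  0, 0, 0, 0, 0, 0, 0, 0,
  0, 0, 0, 0, 0, 0, 0, 0,
  0, 7, 0, 9655, 9595, 0, 1702, 0,
  403, 0, 12019, 0, 0, 2227, 0, 10219,
  0, 9406, 11977, 0, 307, 0, 0, 1603,
  0, 319, 1702, 0, 283, 0, 0, 379,
  0, 0, 0, 0, 0, 0, 0, 0,
  0, 0, 0, 0, 0, 0, 0, 0,
  0, 0, 56437, 9763, 0, 0, 9379, 9871,
  298, 43, 0, 0, 1579, 319, 0, 0
]

theorem cert14_ok : checkFrom 3584 cert14 = true := by decide +kernel

theorem cert14_length : cert14.length = 256 := by decide +kernel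

def cert15 : List ℕ := [
  0, 0, 0, 0, 0, 0, 0, 0,
  0, 0, 0, 0, 0, 0, 0, 0,
  0, 0, 9763, 56437, 0, 0, 1699, 2011,
  1627, 43, 0, 0, 1595, 313, 0, 0,
  0, 9406, 0, 10735, 67, 0, 1664, 0,
  0, 1831, 0, 403, 67, 0, 298, 0,
  0, 7, 2422, 0, 1603, 0, 0, 298,
  1675, 0, 0, 10702, 0, 12373, 1843, 0,
  0, 0, 334, 331, 0, 0, 10207, 379,
  9691, 1699, 0, 0, 56437, 1687, 0, 0,
  0, 0, 0, 0, 0, 0, 0, 0,
  0, 0, 0, 0, 0, 0, 0, 0,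
  0, 1687, 343, 0, 58627, 0, 0, 1783,
  10775, 0, 0, 2020723, 0, 46, 7, 0,
  0, 11995, 0, 49, 67, 0, 61, 0,
  0, 13291, 0, 367, 1603, 0, 343, 0,
  0, 7, 0, 46, 12595, 0, 379, 0,
  0, 2215, 0, 49, 9406, 0, 283, 0,
  0, 57331, 2095, 0, 262, 0, 0, 67,
  61, 0, 0, 1, 0, 56047, 2020723, 0,
  0, 0, 0, 0, 0, 0, 0, 0,
  0, 0, 0, 0, 0, 0, 0, 0,
  0, 0, 1555, 2347, 0, 0, 11491, 332,
  1795, 11503, 0, 0, 1555, 12070, 0, 0,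
  0, 1603, 313, 0, 268, 0, 0, 9478,
  1702, 0, 0, 9478, 0, 49, 10687, 0,
  0, 44, 0, 2209, 1772, 0, 9379, 0,
  0, 301, 0, 313, 1819, 0, 1579, 0,
  0, 0, 1603, 1555, 0, 0, 11503, 1915,
  298, 13363, 0, 0, 2005, 319, 0, 0,
  0, 0, 0, 0, 0, 0, 0, 0,
  0, 0, 0, 0, 0, 0, 0, 0
]

theorem cert15_ok : checkFrom 3840 cert15 = true := by decide +kernel

theorem cert15_length : cert15.length = 256 := by decide +kernel

/-- Every map with the given image of `4` is refuted. -/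
theorem exists_okAt (k : ℕ) (hk : k < 4096) : ∃ n, okAt k n = true := by
  have key : ∀ (b : ℕ) (l : List ℕ), checkFrom (256 * b) l = true → l.length = 256 →
      k / 256 = b → ∃ n, okAt k n = true := by
    intro b l hl hlen hb
    obtain ⟨n, hn⟩ := checkFrom_spec l _ hl (k % 256) (by omega)
    exact ⟨n, by rwa [show 256 * b + k % 256 = k by omega] at hn⟩
  obtain h | h | h | h | h | h | h | h | h | h | h | h | h | h | h | h :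
      k / 256 = 0 ∨ k / 256 = 1 ∨ k / 256 = 2 ∨ k / 256 = 3 ∨ k / 256 = 4 ∨ k / 256 = 5 ∨ k / 256 = 6 ∨ k / 256 = 7 ∨ k / 256 = 8 ∨ k / 256 = 9 ∨ k / 256 = 10 ∨ k / 256 = 11 ∨ k / 256 = 12 ∨ k / 256 = 13 ∨ k / 256 = 14 ∨ k / 256 = 15 := by omega
  · exact key 0 cert0 cert0_ok cert0_length h
  · exact key 1 cert1 cert1_ok cert1_length h
  · exact key 2 cert2 cert2_ok cert2_length h
  · exact key 3 cert3 cert3_ok cert3_length h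
  · exact key 4 cert4 cert4_ok cert4_length h
  · exact key 5 cert5 cert5_ok cert5_length h
  · exact key 6 cert6 cert6_ok cert6_length h
  · exact key 7 cert7 cert7_ok cert7_length h
  · exact key 8 cert8 cert8_ok cert8_length h
  · exact key 9 cert9 cert9_ok cert9_length h
  · exact key 10 cert10 cert10_ok cert10_length h
  · exact key 11 cert11 cert11_ok cert11_length h
  · exact key 12 cert12 cert12_ok cert12_length h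
  · exact key 13 cert13 cert13_ok cert13_length h
  · exact key 14 cert14 cert14_ok cert14_length h
  · exact key 15 cert15 cert15_ok cert15_length h

end CfsgLib.SEightThree.WrLocal
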