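import Cfsg.Agent.Lib.SEightThree.Basic
import Cfsg.Agent.Lib.SEightThree.WrLocal.Table

/-!
The action on the elementary abelian subgroup of order sixteen in the wreathed configuration:
numbering of its elements and the lifting of maps to the group.
-/

set_option autoImplicit false
set_option maxRecDepth 100000

namespace CfsgLib.SEightThree.WrLocal

open Equiv Subgroup

universe u

/-- The facts about the two factors which the local analysis uses. -/
structure Hyp {G : Type u} [Group G] (S : Setup G) : Prop where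
  wr : S.IsWr
  comm : ∀ x ∈ S.L₁, ∀ y ∈ S.L₂, Commute x y
  centV : ∀ x ∈ centralizer (S.V : Set G), ∃ v ∈ S.V, ∃ l ∈ S.L₂, x = v * l
  range_le : S.ψ.range ≤ normalizer (S.N : Set G)
  g_mem : S.g ∈ normalizer (S.N : Set G)

/-- The elements of the four-group on the letters `1, 2, 3, 4`. -/
def vk : ℕ → KF
  | 0 => 1
  | 1 => aF
  | 2 => bF
  | _ => aF * bF

/-- The involution normalizing both four-groups. -/
def rF : KF := eF * fF

theorem L₁F_iff (k : KF) : k ∈ L₁F ↔ k.1 = 1 ∧ Perm.sign k.2 = 1 := by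
  simp [L₁F, Subgroup.mem_prod]

theorem vk_even : ∀ u : Fin 4, (vk u).1 = 1 ∧ Perm.sign (vk u).2 = 1 := by decide +kernel

theorem vk_xor : ∀ i j : Fin 16, vk ((i.val ^^^ j.val) / 4) = vk (i.val / 4) * vk (j.val / 4) ∧
    vk ((i.val ^^^ j.val) % 4) = vk (i.val % 4) * vk (j.val % 4) := by decide +kernel

theorem vk_eq_one : ∀ u : Fin 4, vk u = 1 → u.val = 0 := by decide +kernel

theorem cent_alt : ∀ k : KF, k.1 = 1 → Perm.sign k.2 = 1 → k * aF = aF * k →
    k * xF = xF * k → k = 1 := by decide +kernel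

theorem alt_cent_four : ∀ k : KF, k.1 = 1 → Perm.sign k.2 = 1 → k * aF = aF * k →
    k * bF = bF * k → ∃ u : Fin 4, k = vk u := by decide +kernel

theorem xF_even : xF.1 = 1 ∧ Perm.sign xF.2 = 1 := by decide +kernel

theorem lin_oneM : ∀ i : Fin 16, lin oneM i = i := by decide +kernel

theorem act_z_facts : ∀ i : Fin 16, lin zM i < 16 ∧
    vk (lin zM i / 4) = zF * vk (i.val / 4) * zF⁻¹ ∧
    vk (lin zM i % 4) = dF * vk (i.val % 4) * dF⁻¹ := by decide +kernel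

theorem act_d_facts : ∀ i : Fin 16, lin dM i < 16 ∧
    vk (lin dM i / 4) = dF * vk (i.val / 4) * dF⁻¹ ∧
    vk (lin dM i % 4) = zF * vk (i.val % 4) * zF⁻¹ := by decide +kernel

theorem act_r_facts : ∀ i : Fin 16, lin rM i < 16 ∧
    vk (lin rM i / 4) = rF * vk (i.val / 4) * rF⁻¹ ∧
    vk (lin rM i % 4) = rF * vk (i.val % 4) * rF⁻¹ := by decide +kernel

theorem act_g_facts : ∀ i : Fin 16, lin gM i < 16 ∧
    lin gM i / 4 = i.val % 4 ∧ lin gM i % 4 = i.val / 4 := by decide +kernel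

theorem lin_lt {y : Mp} (h1 : y.1 < 16) (h2 : y.2.1 < 16) (h3 : y.2.2.1 < 16)
    (h4 : y.2.2.2 < 16) (i : ℕ) : lin y i < 16 := by
  unfold lin
  refine Nat.xor_lt_two_pow (n := 4) (Nat.xor_lt_two_pow (n := 4)
    (Nat.xor_lt_two_pow (n := 4) ?_ ?_) ?_) ?_ <;> split <;> omega

variable {G : Type u} [Group G] {S : Setup G}

/-- The element with a given number. -/
def el (S : Setup G) (i : ℕ) : G := S.ψ (vk (i / 4)) * S.φ (vk (i % 4))

theorem conj_mul (n x y : G) : n * (x * y) * n⁻¹ = n * x * n⁻¹ * (n * y * n⁻¹) := by group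

namespace Hyp

variable (H : Hyp S)
include H

theorem φ_eF : S.φ eF = S.ψ (fF * tF) := H.wr.1

theorem φ_fF : S.φ fF = S.ψ (eF * tF) := H.wr.2

theorem φ_rF : S.φ rF = S.ψ rF := by
  rw [rF, map_mul, H.φ_eF, H.φ_fF, ← map_mul]
  congr 1
  decide +kernel

theorem φ_eFtF : S.φ (eF * tF) = S.ψ fF := by
  rw [map_mul, H.φ_eF, S.φ_tF, ← map_mul]
  congr 1
  decide +kernel

omit H in
theorem pair_pow_facts : ∀ i j i' j' : Fin 3, ∃ i'' j'' : Fin 3,
    (zF ^ i.val * dF ^ j.val) * (zF ^ i'.val * dF ^ j'.val) = zF ^ i''.val * dF ^ j''.val ∧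
    ∃ i₀ j₀ : Fin 3, (zF ^ i.val * dF ^ j.val)⁻¹ = zF ^ i₀.val * dF ^ j₀.val := by
  decide +kernel

omit H in
theorem mem_D {x : G} (hx : x ∈ Subgroup.closure ({S.ψ zF, S.ψ dF} : Set G)) :
    ∃ i j : Fin 3, x = S.ψ (zF ^ i.val * dF ^ j.val) := by
  induction hx using Subgroup.closure_induction with
  | mem y hy =>
    rcases hy with rfl | rfl
    · exact ⟨1, 0, congrArg S.ψ (by decide +kernel)⟩
    · exact ⟨0, 1, congrArg S.ψ (by decide +kernel)⟩
  | one => exact ⟨0, 0, by simp⟩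
  | mul y z _ _ hy hz =>
    obtain ⟨i, j, rfl⟩ := hy
    obtain ⟨i', j', rfl⟩ := hz
    obtain ⟨i'', j'', h, -⟩ := pair_pow_facts i j i' j'
    exact ⟨i'', j'', by rw [← map_mul, h]⟩
  | inv y _ hy =>
    obtain ⟨i, j, rfl⟩ := hy
    obtain ⟨-, -, -, i₀, j₀, h⟩ := pair_pow_facts i j i j
    exact ⟨i₀, j₀, by rw [← map_inv, h]⟩

theorem g_sq : S.g * S.g = 1 := by
  have hc : S.g ∈ centralizer ({S.ψ zF * S.ψ dF} : Set G) := by
    rw [mem_centralizer_singleton_iff, ← mul_inv_eq_iff_eq_mul, conj_mul, S.g_z, S.g_d,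
      ← map_mul, ← map_mul]
    exact congrArg S.ψ (by decide +kernel)
  obtain ⟨i, j, hij⟩ := mem_D (S.sq_y _ hc)
  rw [pow_two] at hij
  have hz : S.g * S.g * S.ψ zF * (S.g * S.g)⁻¹ = S.ψ zF := by
    calc S.g * S.g * S.ψ zF * (S.g * S.g)⁻¹ = S.g * (S.g * S.ψ zF * S.g⁻¹) * S.g⁻¹ := by group
      _ = S.ψ zF := by rw [S.g_z, S.g_d]
  have hr : S.g * S.ψ rF * S.g⁻¹ = S.ψ rF := H.φ_rF
  have h1 : S.g * (S.g * S.g) * S.g⁻¹ = S.g * S.g := by group
  have h2 : S.g * S.g * S.ψ rF * (S.g * S.g)⁻¹ = S.ψ rF := by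
    calc S.g * S.g * S.ψ rF * (S.g * S.g)⁻¹ = S.g * (S.g * S.ψ rF * S.g⁻¹) * S.g⁻¹ := by group
      _ = S.ψ rF := by rw [hr, hr]
  rw [hij, ← map_inv, ← map_mul, ← map_mul] at h2
  have hk : ∀ i j : Fin 3, (zF ^ i.val * dF ^ j.val) * rF * (zF ^ i.val * dF ^ j.val)⁻¹ = rF →
      zF ^ i.val * dF ^ j.val = 1 := by decide +kernel
  rw [hij, hk i j (S.inj h2), map_one]

theorem g_inv : S.g⁻¹ = S.g := inv_eq_of_mul_eq_one_right H.g_sq

theorem conj_g_φ (k : KF) : S.g * S.φ k * S.g⁻¹ = S.ψ k := by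
  rw [S.φ_apply]
  calc S.g * (S.g * S.ψ k * S.g⁻¹) * S.g⁻¹ = (S.g * S.g) * S.ψ k * (S.g * S.g)⁻¹ := by group
    _ = S.ψ k := by rw [H.g_sq, one_mul, inv_one, mul_one]

omit H in
theorem conj_g_ψ (k : KF) : S.g * S.ψ k * S.g⁻¹ = S.φ k := (S.φ_apply k).symm

theorem commute_map {k m : KF} (hk : k ∈ L₁F) (hm : m ∈ L₁F) : Commute (S.ψ k) (S.φ m) :=
  H.comm _ (mem_map_of_mem _ hk) _ (mem_map_of_mem _ hm)

/-- The two factors meet trivially. -/
theorem inter {k m : KF} (hk : k ∈ L₁F) (hm : m ∈ L₁F) (h : S.ψ k = S.φ m) : k = 1 ∧ m = 1 := by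
  have hk1 : k = 1 := by
    have hc : ∀ l : KF, l ∈ L₁F → k * l = l * k := fun l hl => S.inj (by
      rw [map_mul, map_mul, h]
      exact (H.commute_map hl hm).eq.symm)
    have hka := (L₁F_iff k).1 hk
    exact cent_alt k hka.1 hka.2 (hc _ ((L₁F_iff _).2 (vk_even 1)))
      (hc _ ((L₁F_iff _).2 xF_even))
  refine ⟨hk1, S.φ_inj ?_⟩
  rw [← h, hk1, map_one, map_one]

omit H in
theorem vk_mem {i : ℕ} : vk (i / 4 % 4) ∈ L₁F :=
  (L₁F_iff _).2 (vk_even ⟨_, Nat.mod_lt _ (by norm_num)⟩)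

omit H in
theorem vk_div_mem {i : ℕ} (hi : i < 16) : vk (i / 4) ∈ L₁F :=
  (L₁F_iff _).2 (vk_even ⟨_, by omega⟩)

omit H in
theorem vk_mod_mem (i : ℕ) : vk (i % 4) ∈ L₁F :=
  (L₁F_iff _).2 (vk_even ⟨_, Nat.mod_lt _ (by norm_num)⟩)

theorem el_xor {i j : ℕ} (hi : i < 16) (hj : j < 16) :
    el S (i ^^^ j) = el S i * el S j := by
  obtain ⟨h1, h2⟩ := vk_xor ⟨i, hi⟩ ⟨j, hj⟩
  simp only at h1 h2
  unfold el
  rw [h1, h2, map_mul, map_mul]
  have hc := H.commute_map (vk_div_mem hj) (vk_mod_mem i)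
  calc S.ψ (vk (i / 4)) * S.ψ (vk (j / 4)) * (S.φ (vk (i % 4)) * S.φ (vk (j % 4)))
      = S.ψ (vk (i / 4)) * (S.ψ (vk (j / 4)) * S.φ (vk (i % 4))) * S.φ (vk (j % 4)) := by
        simp only [mul_assoc]
    _ = _ := by rw [hc.eq]; simp only [mul_assoc]

omit H in
theorem el_zero : el S 0 = 1 := by simp [el, vk]

theorem el_eq_one {i : ℕ} (hi : i < 16) (h : el S i = 1) : i = 0 := by
  have h' : S.ψ (vk (i / 4)) = S.φ (vk (i % 4))⁻¹ := by
    rw [map_inv]; exact eq_inv_of_mul_eq_one_left h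
  obtain ⟨e1, e2⟩ := H.inter (vk_div_mem hi) (inv_mem (vk_mod_mem i)) h'
  have a1 := vk_eq_one ⟨i / 4, by omega⟩ e1
  have a2 := vk_eq_one ⟨i % 4, by omega⟩ (inv_eq_one.1 e2)
  simp only at a1 a2
  omega

theorem el_self {i : ℕ} (hi : i < 16) : el S i * el S i = 1 := by
  rw [← H.el_xor hi hi, Nat.xor_self, el_zero]

theorem el_inj {i j : ℕ} (hi : i < 16) (hj : j < 16) (h : el S i = el S j) : i = j := by
  have := H.el_eq_one (Nat.xor_lt_two_pow (n := 4) hi hj)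
    (by rw [H.el_xor hi hj, ← h, H.el_self hi])
  exact Nat.xor_eq_zero_iff.1 this

omit H in
theorem mem_four {K : Type u} [Group K] (f : KF →* K) {x : K}
    (hx : x ∈ Subgroup.closure ({f aF, f bF} : Set K)) : ∃ u : Fin 4, x = f (vk u) := by
  have hm : ∀ u v : Fin 4, (∃ w : Fin 4, vk u * vk v = vk w) ∧ (vk u)⁻¹ = vk u := by
    decide +kernel
  induction hx using Subgroup.closure_induction with
  | mem y hy =>
    rcases hy with rfl | rfl
    · exact ⟨1, rfl⟩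
    · exact ⟨2, rfl⟩
  | one => exact ⟨0, by simp [vk]⟩
  | mul y z _ _ hy hz =>
    obtain ⟨u, rfl⟩ := hy
    obtain ⟨v, rfl⟩ := hz
    obtain ⟨⟨w, hw⟩, -⟩ := hm u v
    exact ⟨w, by rw [← map_mul, hw]⟩
  | inv y _ hy =>
    obtain ⟨u, rfl⟩ := hy
    exact ⟨u, by rw [← map_inv, (hm u u).2]⟩

omit H in
theorem vk_mem_closure {K : Type u} [Group K] (f : KF →* K) :
    ∀ u : ℕ, f (vk u) ∈ Subgroup.closure ({f aF, f bF} : Set K)
  | 0 => by rw [vk, map_one]; exact one_mem _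
  | 1 => Subgroup.subset_closure (Or.inl rfl)
  | 2 => Subgroup.subset_closure (Or.inr rfl)
  | u + 3 => by
    rw [show vk (u + 3) = aF * bF from rfl, map_mul]
    exact mul_mem (Subgroup.subset_closure (Or.inl rfl)) (Subgroup.subset_closure (Or.inr rfl))

theorem mem_W_iff {x : G} : x ∈ S.W ↔ ∃ i, i < 16 ∧ x = el S i := by
  constructor
  · intro hx
    rw [Setup.W, Subgroup.sup_eq_closure] at hx
    induction hx using Subgroup.closure_induction with
    | mem y hy =>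
      rcases hy with hy | hy
      · obtain ⟨u, rfl⟩ := mem_four S.ψ hy
        refine ⟨4 * u.val, by omega, ?_⟩
        rw [el, show 4 * u.val / 4 = u.val by omega, show 4 * u.val % 4 = 0 by omega]
        simp [vk]
      · obtain ⟨u, rfl⟩ := mem_four S.φ hy
        refine ⟨u.val, by omega, ?_⟩
        rw [el, show u.val / 4 = 0 by omega, show u.val % 4 = u.val by omega]
        simp [vk]
    | one => exact ⟨0, by norm_num, el_zero.symm⟩
    | mul y z _ _ hy hz =>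
      obtain ⟨i, hi, rfl⟩ := hy
      obtain ⟨j, hj, rfl⟩ := hz
      exact ⟨_, Nat.xor_lt_two_pow (n := 4) hi hj, (H.el_xor hi hj).symm⟩
    | inv y _ hy =>
      obtain ⟨i, hi, rfl⟩ := hy
      exact ⟨i, hi, inv_eq_of_mul_eq_one_right (H.el_self hi)⟩
  · rintro ⟨i, -, rfl⟩
    exact mul_mem (le_sup_left (b := S.V') (vk_mem_closure S.ψ _))
      (le_sup_right (a := S.V) (vk_mem_closure S.φ _))

theorem el_mem {i : ℕ} (hi : i < 16) : el S i ∈ S.W := H.mem_W_iff.2 ⟨i, hi, rfl⟩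

theorem el_comm {i j : ℕ} (hi : i < 16) (hj : j < 16) :
    el S i * el S j = el S j * el S i := by
  rw [← H.el_xor hi hj, Nat.xor_comm, H.el_xor hj hi]

end Hyp

/-- An element acts on the elementary abelian subgroup as the given map. -/
structure Act (S : Setup G) (n : G) (y : Mp) : Prop where
  lt1 : y.1 < 16
  lt2 : y.2.1 < 16
  lt4 : y.2.2.1 < 16
  lt8 : y.2.2.2 < 16
  b1 : n * el S 1 * n⁻¹ = el S y.1
  b2 : n * el S 2 * n⁻¹ = el S y.2.1
  b4 : n * el S 4 * n⁻¹ = el S y.2.2.1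
  b8 : n * el S 8 * n⁻¹ = el S y.2.2.2

namespace Hyp

variable (H : Hyp S)
include H

theorem el_lin {y : Mp} (h1 : y.1 < 16) (h2 : y.2.1 < 16) (h4 : y.2.2.1 < 16)
    (h8 : y.2.2.2 < 16) (i : ℕ) :
    el S (lin y i) = (if i % 2 = 1 then el S y.1 else 1) *
      (if i / 2 % 2 = 1 then el S y.2.1 else 1) *
      (if i / 4 % 2 = 1 then el S y.2.2.1 else 1) *
      (if i / 8 % 2 = 1 then el S y.2.2.2 else 1) := by
  have key : ∀ (p : Prop) [Decidable p] (a : ℕ), el S (if p then a else 0) =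
      if p then el S a else 1 := fun p _ a => by split <;> simp [el_zero]
  have lt : ∀ (p : Prop) [Decidable p] {a : ℕ}, a < 16 → (if p then a else 0) < 16 :=
    fun p _ a ha => by split <;> omega
  unfold lin
  rw [H.el_xor (Nat.xor_lt_two_pow (n := 4) (Nat.xor_lt_two_pow (n := 4) (lt _ h1) (lt _ h2))
      (lt _ h4)) (lt _ h8),
    H.el_xor (Nat.xor_lt_two_pow (n := 4) (lt _ h1) (lt _ h2)) (lt _ h4),
    H.el_xor (lt _ h1) (lt _ h2), key, key, key, key]

theorem act_spec {n : G} {y : Mp} (h : Act S n y) {i : ℕ} (hi : i < 16) :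
    n * el S i * n⁻¹ = el S (lin y i) := by
  have e := H.el_lin (y := oneM) (by decide) (by decide) (by decide) (by decide) i
  rw [lin_oneM ⟨i, hi⟩] at e
  simp only [oneM] at e
  rw [H.el_lin h.lt1 h.lt2 h.lt4 h.lt8 i, ← h.b1, ← h.b2, ← h.b4, ← h.b8, e]
  split_ifs <;> group

theorem act_mul {n m : G} {x y : Mp} (hn : Act S n x) (hm : Act S m y) :
    Act S (n * m) (cmp x y) := by
  have key : ∀ {b c : ℕ}, c < 16 → m * el S b * m⁻¹ = el S c →
      n * m * el S b * (n * m)⁻¹ = el S (lin x c) := fun hc h => by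
    rw [← H.act_spec hn hc, ← h]; group
  exact ⟨lin_lt hn.lt1 hn.lt2 hn.lt4 hn.lt8 _, lin_lt hn.lt1 hn.lt2 hn.lt4 hn.lt8 _,
    lin_lt hn.lt1 hn.lt2 hn.lt4 hn.lt8 _, lin_lt hn.lt1 hn.lt2 hn.lt4 hn.lt8 _,
    key hm.lt1 hm.b1, key hm.lt2 hm.b2, key hm.lt4 hm.b4, key hm.lt8 hm.b8⟩

theorem act_unique {n : G} {x y : Mp} (hx : Act S n x) (hy : Act S n y) : x = y :=
  Prod.ext (H.el_inj hx.lt1 hy.lt1 (hx.b1.symm.trans hy.b1))
    (Prod.ext (H.el_inj hx.lt2 hy.lt2 (hx.b2.symm.trans hy.b2))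
      (Prod.ext (H.el_inj hx.lt4 hy.lt4 (hx.b4.symm.trans hy.b4))
        (H.el_inj hx.lt8 hy.lt8 (hx.b8.symm.trans hy.b8))))

theorem act_el {i : ℕ} (hi : i < 16) : Act S (el S i) oneM := by
  have key : ∀ j : ℕ, j < 16 → el S i * el S j * (el S i)⁻¹ = el S j := fun j hj => by
    rw [H.el_comm hi hj, mul_inv_cancel_right]
  exact ⟨by decide, by decide, by decide, by decide, key _ (by decide), key _ (by decide),
    key _ (by decide), key _ (by decide)⟩

omit H in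
theorem act_one : Act S (1 : G) oneM :=
  ⟨by decide, by decide, by decide, by decide, by simp [oneM], by simp [oneM], by simp [oneM],
    by simp [oneM]⟩

theorem act_exists {n : G} (hn : n ∈ normalizer (S.W : Set G)) : ∃ y, Act S n y := by
  have key : ∀ j : ℕ, j < 16 → ∃ c, c < 16 ∧ n * el S j * n⁻¹ = el S c := fun j hj =>
    H.mem_W_iff.1 ((mem_normalizer_iff.1 hn _).1 (H.el_mem hj))
  obtain ⟨a, ha, ea⟩ := key 1 (by norm_num)
  obtain ⟨b, hb, eb⟩ := key 2 (by norm_num)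
  obtain ⟨c, hc, ec⟩ := key 4 (by norm_num)
  obtain ⟨d, hd, ed⟩ := key 8 (by norm_num)
  exact ⟨(a, b, c, d), ha, hb, hc, hd, ea, eb, ec, ed⟩

theorem act_normalizer [Finite G] {n : G} {y : Mp} (h : Act S n y) :
    n ∈ normalizer (S.W : Set G) := by
  refine mem_normalizer_iff_map_conj_eq.2 (eq_of_le_of_card_ge ?_ ?_)
  · rintro - ⟨w, hw, rfl⟩
    obtain ⟨i, hi, rfl⟩ := H.mem_W_iff.1 hw
    exact H.mem_W_iff.2 ⟨_, lin_lt h.lt1 h.lt2 h.lt4 h.lt8 i, H.act_spec h hi⟩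
  · exact (Subgroup.card_map_of_injective (MulAut.conj n).injective).ge

theorem act_zF : Act S (S.ψ zF) zM := by
  have key : ∀ i : Fin 16, S.ψ zF * el S i * (S.ψ zF)⁻¹ = el S (lin zM i) := fun i => by
    obtain ⟨-, e1, e2⟩ := act_z_facts i
    rw [el, el, e1, e2, conj_mul]
    congr 1
    · rw [map_mul, map_mul, map_inv]
    · rw [map_mul, map_mul, map_inv, S.φ_dF]
  exact ⟨by decide, by decide, by decide, by decide, key 1, key 2, key 4, key 8⟩

theorem act_dF : Act S (S.ψ dF) dM := by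
  have key : ∀ i : Fin 16, S.ψ dF * el S i * (S.ψ dF)⁻¹ = el S (lin dM i) := fun i => by
    obtain ⟨-, e1, e2⟩ := act_d_facts i
    rw [el, el, e1, e2, conj_mul]
    congr 1
    · rw [map_mul, map_mul, map_inv]
    · rw [map_mul, map_mul, map_inv, S.φ_zF]
  exact ⟨by decide, by decide, by decide, by decide, key 1, key 2, key 4, key 8⟩

theorem act_rF : Act S (S.ψ rF) rM := by
  have key : ∀ i : Fin 16, S.ψ rF * el S i * (S.ψ rF)⁻¹ = el S (lin rM i) := fun i => by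
    obtain ⟨-, e1, e2⟩ := act_r_facts i
    rw [el, el, e1, e2, conj_mul]
    congr 1
    · rw [map_mul, map_mul, map_inv]
    · rw [map_mul, map_mul, map_inv, H.φ_rF]
  exact ⟨by decide, by decide, by decide, by decide, key 1, key 2, key 4, key 8⟩

theorem act_g : Act S S.g gM := by
  have key : ∀ i : Fin 16, S.g * el S i * S.g⁻¹ = el S (lin gM i) := fun i => by
    obtain ⟨-, e1, e2⟩ := act_g_facts i
    rw [el, el, e1, e2, conj_mul, conj_g_ψ, H.conj_g_φ]
    exact (H.commute_map (vk_mod_mem i.val) (vk_div_mem i.isLt)).eq.symm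
  exact ⟨by decide, by decide, by decide, by decide, key 1, key 2, key 4, key 8⟩

end Hyp

end CfsgLib.SEightThree.WrLocal
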