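import Cfsg.Agent.Lib.SEightThree.WrLocal.Action

/-!
The normalizer of the elementary abelian subgroup of order sixteen in the wreathed configuration.
-/

set_option autoImplicit false
set_option maxRecDepth 100000
set_option linter.unusedSectionVars false

namespace CfsgLib.SEightThree.WrLocal

open Equiv Subgroup

universe u

/-- The indices of the nontrivial elements of the two four-groups. -/
def AM : List ℕ := [1, 2, 3, 4, 8, 12]

/-- The map fixing the second four-group and transposing two elements of the first. -/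
def tauM : Mp := (1, 2, 4, 12)

/-- Powers of maps. -/
def pw (y : Mp) : ℕ → Mp
  | 0 => oneM
  | k + 1 => cmp (pw y k) y

theorem pw_mem : ∀ i j : Fin 3, cmp (pw zM i) (pw dM j) ∈ DM := by decide +kernel

theorem vk_trivial : ∀ u : Fin 4, vk u * vk u = 1 := by decide +kernel

theorem z_fixed : ∀ i : Fin 16, lin zM i = i.val → i.val % 4 = 0 := by decide +kernel

theorem z_order : ∀ i : Fin 16, (i.val ^^^ lin zM i) ^^^ lin zM (lin zM i) = 0 →
    ∃ j : Fin 16, j.val ^^^ lin zM j = i.val := by decide +kernel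

theorem pm_surj : ∀ i : Fin 16, (∃ j : Fin 16, j.val ^^^ lin pM j = i.val) ∧
    (∃ j : Fin 16, j.val ^^^ lin mM j = i.val) := by decide +kernel

theorem four_cases : ∀ k : KF, k * zF = zF * k → (∃ u : Fin 4, k * aF * k⁻¹ = vk u) →
    (∃ u : Fin 4, k * bF * k⁻¹ = vk u) →
    ∃ (i j : Fin 3) (u : Fin 4), k = zF ^ i.val * dF ^ j.val * vk u ∨
      k = zF ^ i.val * dF ^ j.val * vk u * fF := by decide +kernel

theorem moved : ∀ v : Fin 4, eF * tF * aF * (eF * tF)⁻¹ * (vk v)⁻¹ ≠ 1 := by decide +kernel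

theorem moved_mem : ∀ v : Fin 4, (eF * tF * aF * (eF * tF)⁻¹ * (vk v)⁻¹).1 = 1 ∧
    Perm.sign (eF * tF * aF * (eF * tF)⁻¹ * (vk v)⁻¹).2 = 1 := by decide +kernel

theorem no_transposing : ∀ k : KF, k.1 = 1 → Perm.sign k.2 = 1 →
    k * aF = aF * k → k * bF * k⁻¹ ≠ aF * bF := by decide +kernel

theorem f_conj_zd : fF * (zF * dF) * fF⁻¹ = zF * (dF * dF) := by decide +kernel

theorem f_conj_pow : ∀ i j : Fin 3, ∃ i' j' : Fin 3,
    fF * (zF ^ i.val * dF ^ j.val) * fF⁻¹ = zF ^ i'.val * dF ^ j'.val := by decide +kernel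

theorem to_five : ∀ c : Fin 16, c.val ≠ 0 → ¬ (c.val ∈ AM) → ∃ m ∈ DM, lin m c = 5 := by
  decide +kernel

theorem to_four : ∀ c : Fin 16, c.val ∈ AM →
    ∃ m ∈ PM, lin m 4 = c.val ∧ ∀ b : Fin 16, b.val ∈ AM → lin m b ∈ AM := by decide +kernel

theorem small_cases : ∀ a ∈ AM, ∀ b ∈ AM, ∀ c ∈ AM, ∀ d ∈ AM,
    (∃ i ∈ List.range 16, i ≠ 0 ∧ lin (a, b, c, d) i = 0) ∨
      (∃ i : Fin 16, i.val ∈ AM ∧ lin (a, b, c, d) i ∉ AM) ∨
      (a, b, c, d) ∈ PM ∨ ∃ p ∈ PM, cmp p (a, b, c, d) = tauM := by decide +kernel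

theorem fix_four : ∀ y ∈ PM, y.2.2.1 = 4 → y.2.2.2 = 8 ∨ y.2.2.2 = 12 := by decide +kernel

theorem PM_pres : ∀ y ∈ PM, ∀ i ∈ AM, lin y i ∈ AM := by decide +kernel

theorem PM_card : PM.length = 36 := by decide +kernel

theorem PM_fix_card : (PM.filter fun y => decide (y.2.2.1 = 4)).length = 6 := by decide +kernel

variable {G : Type u} [Group G] {S : Setup G}

namespace Hyp

variable (H : Hyp S)
include H

theorem el_four (u : ℕ) : el S (4 * u) = S.ψ (vk u) := by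
  rw [el, show 4 * u / 4 = u by omega, show 4 * u % 4 = 0 by omega]
  simp [vk]

theorem el_low {u : ℕ} (hu : u < 4) : el S u = S.φ (vk u) := by
  rw [el, show u / 4 = 0 by omega, show u % 4 = u by omega]
  simp [vk]

theorem el_1 : el S 1 = S.φ aF := H.el_low (u := 1) (by norm_num)
theorem el_2 : el S 2 = S.φ bF := H.el_low (u := 2) (by norm_num)
theorem el_4 : el S 4 = S.ψ aF := H.el_four 1
theorem el_8 : el S 8 = S.ψ bF := H.el_four 2

/-- Elements of the centralizer of the second four-group. -/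
theorem centV' {x : G} (hx : ∀ u : Fin 4, x * S.φ (vk u) = S.φ (vk u) * x) :
    ∃ v : Fin 4, ∃ k ∈ L₁F, x = S.φ (vk v) * S.ψ k := by
  have h : S.g * x * S.g⁻¹ ∈ centralizer (S.V : Set G) := by
    intro y hy
    obtain ⟨u, rfl⟩ := mem_four S.ψ hy
    rw [← H.conj_g_φ (vk u), ← conj_mul, ← conj_mul, hx u]
  obtain ⟨v, hv, l, hl, e⟩ := H.centV _ h
  obtain ⟨v, rfl⟩ := mem_four S.ψ hv
  obtain ⟨k, hk, rfl⟩ := hl
  refine ⟨v, k, hk, ?_⟩
  rw [← conj_g_ψ, ← H.conj_g_φ k, ← conj_mul, ← e]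
  calc x = (S.g * S.g) * x * (S.g * S.g)⁻¹ := by rw [H.g_sq]; group
    _ = S.g * (S.g * x * S.g⁻¹) * S.g⁻¹ := by group

theorem centV_cases {x : G} (hx : ∀ u : Fin 4, x * S.ψ (vk u) = S.ψ (vk u) * x) :
    ∃ v : Fin 4, ∃ k ∈ L₁F, x = S.ψ (vk v) * S.φ k := by
  obtain ⟨v, hv, l, hl, e⟩ := H.centV x (fun y hy => by
    obtain ⟨u, rfl⟩ := mem_four S.ψ hy
    exact (hx u).symm)
  obtain ⟨v, rfl⟩ := mem_four S.ψ hv
  obtain ⟨k, hk, rfl⟩ := hl
  exact ⟨v, k, hk, e⟩

theorem comm_el {n : G} {i : ℕ} (h : n * el S i * n⁻¹ = el S i) :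
    n * el S i = el S i * n := mul_inv_eq_iff_eq_mul.1 h

/-- The elementary abelian subgroup is its own centralizer. -/
theorem mem_of_act_one {x : G} (h : Act S x oneM) : ∃ i, i < 16 ∧ x = el S i := by
  have hc : ∀ i : ℕ, i < 16 → x * el S i = el S i * x := fun i hi => H.comm_el (by
    rw [H.act_spec h hi, lin_oneM ⟨i, hi⟩])
  obtain ⟨v, k, hk, rfl⟩ := H.centV_cases (x := x) fun u => by
    have := hc (4 * u.val) (by omega)
    rwa [H.el_four] at this
  have hk' : ∀ u : Fin 4, k * vk u = vk u * k := fun u => S.φ_inj (by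
    have h1 := hc u.val (by omega)
    rw [H.el_low u.isLt, mul_assoc, ← mul_assoc (S.φ (vk u)),
      ← (H.commute_map ((L₁F_iff _).2 (vk_even v)) ((L₁F_iff _).2 (vk_even u))).eq,
      mul_assoc] at h1
    rw [map_mul, map_mul]
    exact mul_left_cancel h1)
  obtain ⟨hk1, hk2⟩ := (L₁F_iff k).1 hk
  obtain ⟨w, rfl⟩ := alt_cent_four k hk1 hk2 (hk' 1) (hk' 2)
  refine ⟨4 * v.val + w.val, by omega, ?_⟩
  rw [el, show (4 * v.val + w.val) / 4 = v.val by omega,
    show (4 * v.val + w.val) % 4 = w.val by omega]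

theorem act_pow_z : ∀ i : ℕ, Act S (S.ψ (zF ^ i)) (pw zM i)
  | 0 => by rw [pow_zero, map_one]; exact act_one
  | i + 1 => by rw [pow_succ, map_mul]; exact H.act_mul (act_pow_z i) H.act_zF

theorem act_pow_d : ∀ i : ℕ, Act S (S.ψ (dF ^ i)) (pw dM i)
  | 0 => by rw [pow_zero, map_one]; exact act_one
  | i + 1 => by rw [pow_succ, map_mul]; exact H.act_mul (act_pow_d i) H.act_dF

theorem act_D (i j : Fin 3) :
    Act S (S.ψ (zF ^ i.val * dF ^ j.val)) (cmp (pw zM i) (pw dM j)) := by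
  rw [map_mul]; exact H.act_mul (H.act_pow_z i) (H.act_pow_d j)

theorem act_el_mul {n : G} {y : Mp} (h : Act S n y) {i : ℕ} (hi : i < 16) :
    Act S (el S i * n) y := by
  have key : ∀ {b c : ℕ}, c < 16 → n * el S b * n⁻¹ = el S c →
      el S i * n * el S b * (el S i * n)⁻¹ = el S c := fun {b c} hc e => by
    calc el S i * n * el S b * (el S i * n)⁻¹
        = el S i * (n * el S b * n⁻¹) * (el S i)⁻¹ := by group
      _ = el S c := by rw [e, H.el_comm hi hc, mul_inv_cancel_right]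
  exact ⟨h.lt1, h.lt2, h.lt4, h.lt8, key h.lt1 h.b1, key h.lt2 h.b2, key h.lt4 h.b4,
    key h.lt8 h.b8⟩

variable [Finite G]

/-- An element commuting with `q` modulo the subgroup differs from one commuting with it by a
subgroup element, if `q` has no fixed points to spare. -/
theorem lift {n q : G} {y m : Mp} (hn : Act S n y) (hq : Act S q m) (e : cmp y m = cmp m y) :
    ∃ i, i < 16 ∧ n * q * n⁻¹ = el S i * q ∧ ∀ j, j < 16 → j ^^^ lin m j = i →
      (el S j * n) * q = q * (el S j * n) := by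
  have h1 : Act S (n * q) (cmp y m) := H.act_mul hn hq
  have h2 : Act S (q * n) (cmp y m) := e ▸ H.act_mul hq hn
  have key : ∀ b : ℕ, b < 16 →
      n * q * n⁻¹ * q⁻¹ * el S b * (n * q * n⁻¹ * q⁻¹)⁻¹ = el S b := by
    intro b hb
    obtain ⟨j, hj, hjb⟩ := H.mem_W_iff.1
      ((mem_normalizer_iff''.1 (H.act_normalizer h2) _).1 (H.el_mem hb))
    calc n * q * n⁻¹ * q⁻¹ * el S b * (n * q * n⁻¹ * q⁻¹)⁻¹
        = (n * q) * ((q * n)⁻¹ * el S b * (q * n)) * (n * q)⁻¹ := by group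
      _ = (q * n) * el S j * (q * n)⁻¹ := by rw [hjb, H.act_spec h1 hj, H.act_spec h2 hj]
      _ = el S b := by rw [← hjb]; group
  obtain ⟨i, hi, hc⟩ := H.mem_of_act_one (x := n * q * n⁻¹ * q⁻¹)
    ⟨by decide, by decide, by decide, by decide, key 1 (by decide), key 2 (by decide),
      key 4 (by decide), key 8 (by decide)⟩
  refine ⟨i, hi, by rw [← hc, inv_mul_cancel_right], fun j hj hji => ?_⟩
  have hw : el S i = el S j * (q * el S j * q⁻¹) := by
    rw [H.act_spec hq hj, ← H.el_xor hj (lin_lt hq.lt1 hq.lt2 hq.lt4 hq.lt8 j), hji]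
  calc el S j * n * q = el S j * (n * q * n⁻¹) * n := by group
    _ = el S j * (el S j * (q * el S j * q⁻¹) * q) * n := by rw [← hw, ← hc, inv_mul_cancel_right]
    _ = (el S j * el S j) * (q * el S j * n) := by group
    _ = q * (el S j * n) := by rw [H.el_self hj, one_mul, mul_assoc]

/-- An element commuting with the action of `z` acts as an element of order dividing three. -/
theorem sound_z {n : G} {y : Mp} (hn : Act S n y) (e : cmp y zM = cmp zM y) : y ∈ DM := by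
  obtain ⟨i, hi, hni, hj⟩ := H.lift hn H.act_zF e
  have h0 : el S i * (S.ψ zF * el S i * (S.ψ zF)⁻¹) *
      (S.ψ zF * (S.ψ zF * el S i * (S.ψ zF)⁻¹) * (S.ψ zF)⁻¹) = 1 := by
    have hz3 : S.ψ zF ^ 3 = 1 := by
      rw [← map_pow, show zF ^ 3 = 1 by decide +kernel, map_one]
    have h : (el S i * S.ψ zF) ^ 3 = 1 := by rw [← hni, conj_pow, hz3, mul_one, mul_inv_cancel]
    calc el S i * (S.ψ zF * el S i * (S.ψ zF)⁻¹) *
          (S.ψ zF * (S.ψ zF * el S i * (S.ψ zF)⁻¹) * (S.ψ zF)⁻¹)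
        = (el S i * S.ψ zF) ^ 3 * (S.ψ zF ^ 3)⁻¹ := by simp only [pow_succ, pow_zero]; group
      _ = 1 := by rw [h, hz3, one_mul, inv_one]
  have l1 : lin zM i < 16 := (act_z_facts ⟨i, hi⟩).1
  have l2 : lin zM (lin zM i) < 16 := (act_z_facts ⟨_, l1⟩).1
  rw [H.act_spec H.act_zF hi, H.act_spec H.act_zF l1, ← H.el_xor hi l1,
    ← H.el_xor (Nat.xor_lt_two_pow (n := 4) hi l1) l2] at h0
  obtain ⟨j, hji⟩ := z_order ⟨i, hi⟩
    (H.el_eq_one (Nat.xor_lt_two_pow (n := 4) (Nat.xor_lt_two_pow (n := 4) hi l1) l2) h0)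
  have hcomm := hj j.val j.isLt hji
  have hn' : Act S (el S j.val * n) y := H.act_el_mul hn j.isLt
  generalize el S j.val * n = x at hcomm hn'
  obtain ⟨k, rfl⟩ : x ∈ S.ψ.range := S.range_eq ▸ centralizer_le_normalizer _ (fun t ht => by
    obtain ⟨l, rfl⟩ := mem_zpowers_iff.1 ht
    exact ((show Commute x (S.ψ zF) from hcomm).zpow_right l).eq.symm)
  have hk : k * zF = zF * k := S.inj (by rw [map_mul, map_mul]; exact hcomm)
  have img : ∀ u : ℕ, u < 4 → ∃ w : Fin 4, k * vk u * k⁻¹ = vk w := by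
    intro u hu
    have e1 : S.ψ k * S.ψ (vk u) * (S.ψ k)⁻¹ = el S (lin y (4 * u)) := by
      rw [← H.el_four, H.act_spec hn' (by omega)]
    have hlt := lin_lt hn'.lt1 hn'.lt2 hn'.lt4 hn'.lt8 (4 * u)
    have hfix : S.ψ zF * S.ψ (vk u) * (S.ψ zF)⁻¹ = S.ψ (vk u) := by
      rw [← map_inv, ← map_mul, ← map_mul]
      congr 1
      have : ∀ u : Fin 4, zF * vk u * zF⁻¹ = vk u := by decide +kernel
      exact this ⟨u, hu⟩
    have e2 : S.ψ zF * el S (lin y (4 * u)) * (S.ψ zF)⁻¹ = el S (lin y (4 * u)) := by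
      rw [← e1]
      calc S.ψ zF * (S.ψ k * S.ψ (vk u) * (S.ψ k)⁻¹) * (S.ψ zF)⁻¹
          = (S.ψ zF * S.ψ k) * S.ψ (vk u) * (S.ψ zF * S.ψ k)⁻¹ := by group
        _ = (S.ψ k * S.ψ zF) * S.ψ (vk u) * (S.ψ k * S.ψ zF)⁻¹ := by rw [hcomm]
        _ = S.ψ k * (S.ψ zF * S.ψ (vk u) * (S.ψ zF)⁻¹) * (S.ψ k)⁻¹ := by group
        _ = _ := by rw [hfix]
    rw [H.act_spec H.act_zF hlt] at e2
    have h4 := z_fixed ⟨_, hlt⟩ (H.el_inj (act_z_facts ⟨_, hlt⟩).1 hlt e2)
    simp only at h4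
    refine ⟨⟨lin y (4 * u) / 4, by omega⟩, S.inj ?_⟩
    rw [map_mul, map_mul, map_inv, e1, ← H.el_four]
    congr 1
    show lin y (4 * u) = 4 * (lin y (4 * u) / 4)
    omega
  obtain ⟨a, b, u, hk | hk⟩ := four_cases k hk (img 1 (by norm_num)) (img 2 (by norm_num))
  · have hD := H.act_mul (H.act_D a b) (H.act_el (i := 4 * u.val) (by omega))
    rw [H.el_four, ← map_mul, ← hk] at hD
    rw [H.act_unique hn' hD]
    have : ∀ a b : Fin 3, cmp (cmp (pw zM a) (pw dM b)) oneM ∈ DM := by decide +kernel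
    exact this a b
  · exfalso
    have hN : S.ψ fF ∈ normalizer (S.W : Set G) := by
      have h1 : S.ψ (zF ^ a.val * dF ^ b.val * vk u) ∈ normalizer (S.W : Set G) := by
        rw [map_mul, ← H.el_four]
        exact mul_mem (H.act_normalizer (H.act_D a b))
          (H.act_normalizer (H.act_el (by omega)))
      have h2 := mul_mem (inv_mem h1) (H.act_normalizer hn')
      rwa [hk, map_mul (S.ψ) _ fF, inv_mul_cancel_left] at h2
    obtain ⟨c, hc, ec⟩ := H.mem_W_iff.1 ((mem_normalizer_iff.1 hN _).1 (H.el_mem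
      (i := 1) (by norm_num)))
    rw [H.el_1, ← H.φ_eFtF, ← map_inv, ← map_mul, ← map_mul, el] at ec
    have e' : S.ψ (vk (c / 4)) = S.φ (eF * tF * aF * (eF * tF)⁻¹ * (vk (c % 4))⁻¹) := by
      rw [map_mul, ec, map_inv, mul_inv_cancel_right]
    exact moved ⟨c % 4, by omega⟩ (H.inter (vk_div_mem hc)
      ((L₁F_iff _).2 (moved_mem ⟨c % 4, by omega⟩)) e').2

/-- Elements of the centralizers of the fixed-point-free diagonal elements. -/
theorem sq_cases {x : G} (hx : x * (S.ψ zF * S.ψ dF) = S.ψ zF * S.ψ dF * x ∨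
    x * S.ψ (zF * (dF * dF)) = S.ψ (zF * (dF * dF)) * x) :
    ∃ i j : Fin 3, x * x = S.ψ (zF ^ i.val * dF ^ j.val) := by
  rcases hx with hx | hx
  · obtain ⟨i, j, h⟩ := mem_D (S.sq_y x (mem_centralizer_singleton_iff.2 hx))
    exact ⟨i, j, by rw [← h, pow_two]⟩
  · rw [← f_conj_zd, map_mul, map_mul, map_inv] at hx
    obtain ⟨i, j, h⟩ := mem_D (S.sq_y ((S.ψ fF)⁻¹ * x * S.ψ fF) (by
      rw [mem_centralizer_singleton_iff, ← map_mul]
      calc (S.ψ fF)⁻¹ * x * S.ψ fF * S.ψ (zF * dF)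
          = (S.ψ fF)⁻¹ * (x * (S.ψ fF * S.ψ (zF * dF) * (S.ψ fF)⁻¹)) * S.ψ fF := by group
        _ = _ := by rw [hx]; group))
    obtain ⟨i', j', e⟩ := f_conj_pow i j
    refine ⟨i', j', ?_⟩
    rw [← e, map_mul, map_mul, map_inv, ← h, pow_two]
    group

/-- An element commuting with the action of a diagonal element squares into the elements of
order dividing three. -/
theorem sound_pm {n : G} {y : Mp} (hn : Act S n y)
    (e : cmp y pM = cmp pM y ∨ cmp y mM = cmp mM y) : cmp y y ∈ DM := by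
  have hp : Act S (S.ψ zF * S.ψ dF) pM := H.act_mul H.act_zF H.act_dF
  have hm : Act S (S.ψ (zF * (dF * dF))) mM := by
    rw [map_mul, map_mul]
    exact H.act_mul H.act_zF (H.act_mul H.act_dF H.act_dF)
  have main : ∀ j : ℕ, j < 16 → ((el S j * n) * (S.ψ zF * S.ψ dF) =
        S.ψ zF * S.ψ dF * (el S j * n) ∨ (el S j * n) * S.ψ (zF * (dF * dF)) =
        S.ψ (zF * (dF * dF)) * (el S j * n)) → cmp y y ∈ DM := by
    intro j hj hx
    obtain ⟨a, b, hab⟩ := H.sq_cases hx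
    have h1 := H.act_mul (H.act_el_mul hn hj) (H.act_el_mul hn hj)
    rw [hab] at h1
    rw [H.act_unique h1 (H.act_D a b)]
    exact pw_mem a b
  rcases e with e | e
  · obtain ⟨i, hi, -, h⟩ := H.lift hn hp e
    obtain ⟨j, hj⟩ := (pm_surj ⟨i, hi⟩).1
    exact main j j.isLt (Or.inl (h j j.isLt hj))
  · obtain ⟨i, hi, -, h⟩ := H.lift hn hm e
    obtain ⟨j, hj⟩ := (pm_surj ⟨i, hi⟩).2
    exact main j j.isLt (Or.inr (h j j.isLt hj))

theorem not_bad {n : G} {y : Mp} (hn : Act S n y) : bad y = false := by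
  rw [Bool.eq_false_iff]
  intro h
  simp only [bad, Bool.or_eq_true, Bool.and_eq_true, Bool.not_eq_true', decide_eq_true_eq,
    decide_eq_false_iff_not] at h
  rcases h with ⟨e, h⟩ | ⟨e, h⟩
  · exact h (H.sound_z hn e)
  · exact h (H.sound_pm hn e)

theorem act_word {n : G} {y : Mp} (hn : Act S n y) :
    ∀ (k w : ℕ), ∃ x, Act S x (word y k w)
  | 0, w => ⟨1, by rw [word]; exact act_one⟩
  | k + 1, w => by
    rw [word]
    split
    · exact ⟨1, act_one⟩
    · obtain ⟨x, hx⟩ := act_word hn k (w / 6)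
      split
      · exact ⟨_, H.act_mul hn hx⟩
      · exact ⟨_, H.act_mul H.act_zF hx⟩
      · exact ⟨_, H.act_mul H.act_dF hx⟩
      · exact ⟨_, H.act_mul H.act_rF hx⟩
      · exact ⟨_, H.act_mul H.act_g hx⟩

theorem lin_ne_zero {n : G} {y : Mp} (hn : Act S n y) {i : ℕ} (hi : i < 16) (h0 : i ≠ 0) :
    lin y i ≠ 0 := fun h => h0 (H.el_eq_one hi (by
  have e := H.act_spec hn hi
  rwa [h, el_zero, mul_inv_eq_one, mul_eq_left] at e))

theorem act_DM {m : Mp} (hm : m ∈ DM) : ∃ x, x ∈ S.ψ.range ∧ Act S x m := by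
  have key : ∀ m ∈ DM, ∃ i j : Fin 3, cmp (pw zM i) (pw dM j) = m := by decide +kernel
  obtain ⟨i, j, rfl⟩ := key m hm
  exact ⟨_, ⟨_, rfl⟩, H.act_D i j⟩

/-- Every element of the list is induced by a known element. -/
theorem act_PM {m : Mp} (hm : m ∈ PM) :
    ∃ x, x ∈ S.ψ.range ⊔ Subgroup.closure ({S.g} : Set G) ∧ Act S x m := by
  have key : ∀ m ∈ PM, ∃ p ∈ DM, m = p ∨ m = cmp p rM ∨ m = cmp p gM ∨
      m = cmp p (cmp rM gM) := by decide +kernel
  obtain ⟨p, hp, h⟩ := key m hm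
  obtain ⟨x, hx, hxp⟩ := H.act_DM hp
  have hx' := le_sup_left (b := Subgroup.closure ({S.g} : Set G)) hx
  have hr := le_sup_left (b := Subgroup.closure ({S.g} : Set G))
    (show S.ψ rF ∈ S.ψ.range from ⟨rF, rfl⟩)
  have hg := le_sup_right (a := S.ψ.range) (Subgroup.subset_closure (Set.mem_singleton S.g))
  rcases h with rfl | rfl | rfl | rfl
  · exact ⟨x, hx', hxp⟩
  · exact ⟨_, mul_mem hx' hr, H.act_mul hxp H.act_rF⟩
  · exact ⟨_, mul_mem hx' hg, H.act_mul hxp H.act_g⟩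
  · exact ⟨_, mul_mem hx' (mul_mem hr hg), H.act_mul hxp (H.act_mul H.act_rF H.act_g)⟩

/-- No element moves an element of a factor onto a mixed element. -/
theorem lin_four_mem {n : G} {y : Mp} (hn : Act S n y) : lin y 4 ∈ AM := by
  by_contra hA
  have hlt := lin_lt hn.lt1 hn.lt2 hn.lt4 hn.lt8 4
  obtain ⟨m, hm, h5⟩ := to_five ⟨_, hlt⟩ (H.lin_ne_zero hn (by norm_num) (by norm_num)) hA
  obtain ⟨x, -, hx⟩ := H.act_DM hm
  have hy := H.act_mul hx hn
  have e4 : (cmp m y).2.2.1 = 5 := by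
    have : lin y 4 = y.2.2.1 := by simp [lin]
    have h5' : lin m (lin y 4) = 5 := h5
    rw [this] at h5'
    exact h5'
  generalize cmp m y = q at hy e4
  obtain ⟨a, b, c, d⟩ := q
  change c = 5 at e4
  subst e4
  have ha := hy.lt1
  have hb := hy.lt2
  have hd := hy.lt8
  dsimp only at ha hb hd
  obtain ⟨w, hw⟩ := exists_okAt (256 * a + 16 * b + d) (by omega)
  have em : mapAt (256 * a + 16 * b + d) = (a, b, 5, d) :=
    Prod.ext (show (256 * a + 16 * b + d) / 256 % 16 = a by omega)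
      (Prod.ext (show (256 * a + 16 * b + d) / 16 % 16 = b by omega)
        (Prod.ext rfl (show (256 * a + 16 * b + d) % 16 = d by omega)))
  rw [okAt, em, Bool.or_eq_true] at hw
  rcases hw with hw | hw
  · obtain ⟨z, hz⟩ := H.act_word hy 16 w
    simp [H.not_bad hz] at hw
  · simp only [List.any_eq_true, List.mem_range, decide_eq_true_eq] at hw
    obtain ⟨i, hi, h⟩ := hw
    exact H.lin_ne_zero hy (by omega) (by omega) h

theorem pres {n : G} {y : Mp} (hn : Act S n y) {i : ℕ} (hi : i ∈ AM) : lin y i ∈ AM := by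
  have hi16 : i < 16 := by
    have : ∀ i ∈ AM, i < 16 := by decide
    exact this i hi
  obtain ⟨m, hm, hm4, -⟩ := to_four ⟨i, hi16⟩ hi
  obtain ⟨x, -, hx⟩ := H.act_PM hm
  have h := H.lin_four_mem (H.act_mul hn hx)
  rwa [show lin (cmp y m) 4 = lin y (lin m 4) from by
    simp only [lin, cmp]; norm_num, hm4] at h

theorem not_tau {n : G} : ¬ Act S n tauM := by
  intro h
  have h1 := H.comm_el h.b1
  have h2 := H.comm_el h.b2
  rw [H.el_1] at h1
  rw [H.el_2] at h2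
  obtain ⟨v, k, hk, rfl⟩ := H.centV' (x := n) fun u => by
    fin_cases u
    · simp [vk]
    · exact h1
    · exact h2
    · show n * S.φ (aF * bF) = S.φ (aF * bF) * n
      rw [map_mul, ← mul_assoc, h1, mul_assoc, h2, mul_assoc]
  obtain ⟨hk1, hk2⟩ := (L₁F_iff k).1 hk
  have key : ∀ b : KF, b ∈ L₁F → S.φ (vk v) * S.ψ k * S.ψ b * (S.φ (vk v) * S.ψ k)⁻¹ =
      S.ψ (k * b * k⁻¹) := by
    intro b hb
    calc S.φ (vk v) * S.ψ k * S.ψ b * (S.φ (vk v) * S.ψ k)⁻¹
        = S.φ (vk v) * (S.ψ k * S.ψ b * (S.ψ k)⁻¹) * (S.φ (vk v))⁻¹ := by group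
      _ = S.ψ (k * b * k⁻¹) := by
        rw [← map_inv S.ψ, ← map_mul, ← map_mul, ← (H.commute_map
          (mul_mem (mul_mem hk hb) (inv_mem hk)) ((L₁F_iff _).2 (vk_even v))).eq,
          mul_inv_cancel_right]
  have e4 := h.b4
  have e8 := h.b8
  rw [H.el_4, key aF ((L₁F_iff _).2 (vk_even 1))] at e4
  rw [H.el_8, key bF ((L₁F_iff _).2 (vk_even 2))] at e8
  simp only [tauM] at e4 e8
  rw [H.el_4] at e4
  rw [show el S 12 = S.ψ (aF * bF) from H.el_four 3] at e8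
  exact no_transposing k hk1 hk2 (mul_inv_eq_iff_eq_mul.1 (S.inj e4)) (S.inj e8)

/-- The action of the normalizer is the known one. -/
theorem act_mem {n : G} {y : Mp} (hn : Act S n y) : y ∈ PM := by
  have h1 : y.1 ∈ AM := by simpa [lin] using H.pres hn (i := 1) (by decide)
  have h2 : y.2.1 ∈ AM := by simpa [lin] using H.pres hn (i := 2) (by decide)
  have h4 : y.2.2.1 ∈ AM := by simpa [lin] using H.pres hn (i := 4) (by decide)
  have h8 : y.2.2.2 ∈ AM := by simpa [lin] using H.pres hn (i := 8) (by decide)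
  rcases small_cases _ h1 _ h2 _ h4 _ h8 with ⟨i, hi, h0, h⟩ | ⟨i, hi, h⟩ | h | ⟨p, hp, h⟩
  · exact absurd h (H.lin_ne_zero hn (List.mem_range.1 hi) h0)
  · exact absurd (H.pres hn hi) h
  · exact h
  · obtain ⟨x, -, hx⟩ := H.act_PM hp
    have := H.act_mul hx hn
    rw [show cmp p y = tauM from h] at this
    exact absurd this H.not_tau

end Hyp

end CfsgLib.SEightThree.WrLocal
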