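import Cfsg.Agent.Lib.SEightThree.WrLocal.Normalizer

/-!
The order of the normalizer of the elementary abelian subgroup of order sixteen, the Sylow
subgroup in it and the control of fusion.
-/

set_option autoImplicit false
set_option maxRecDepth 100000
set_option linter.unusedSectionVars false

namespace CfsgLib.SEightThree.WrLocal

open Equiv Subgroup
open scoped Pointwise

universe u

set_option synthInstance.maxSize 4000 in
theorem invol_fix : ∀ x ∈ PM, ∀ y ∈ PM, cmp x x = oneM → cmp y y = oneM → x ≠ oneM → y ≠ oneM →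
    ((List.range 16).filter fun i => decide (lin x i = i)).length ≤ 4 ∧
      (x ≠ y → cmp x y = cmp y x →
        ((List.range 16).filter fun i => decide (lin x i = i) && decide (lin y i = i)).length ≤ 2 ∧
        (PM.filter fun w => decide (cmp w w = oneM) && decide (cmp w x = cmp x w) &&
          decide (cmp w y = cmp y w)).length ≤ 4) := by decide +kernel

theorem PM_nodup : PM.Nodup := by decide +kernel

variable {G : Type u} [Group G] {S : Setup G}

namespace Hyp

variable (H : Hyp S)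
include H

theorem W_le_normalizer : S.W ≤ normalizer (S.W : Set G) := le_normalizer

variable [Finite G]

theorem act_rep (m : {m : Mp // m ∈ PM}) :
    ∃ x, x ∈ S.ψ.range ⊔ Subgroup.closure ({S.g} : Set G) ∧ Act S x m.1 :=
  H.act_PM m.2

/-- A chosen element inducing a map. -/
noncomputable def rep (m : {m : Mp // m ∈ PM}) : G := (H.act_rep m).choose

theorem rep_spec (m : {m : Mp // m ∈ PM}) :
    H.rep m ∈ S.ψ.range ⊔ Subgroup.closure ({S.g} : Set G) ∧ Act S (H.rep m) m.1 :=
  (H.act_rep m).choose_spec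

theorem decomp {n : G} {y : Mp} (hn : Act S n y) :
    ∃ i : Fin 16, n = el S i.val * H.rep ⟨y, H.act_mem hn⟩ := by
  set x := H.rep ⟨y, H.act_mem hn⟩ with hx
  have hxy : Act S x y := (H.rep_spec ⟨y, H.act_mem hn⟩).2
  have key : ∀ i : ℕ, i < 16 → n * x⁻¹ * el S i * (n * x⁻¹)⁻¹ = el S i := by
    intro i hi
    obtain ⟨j, hj, hji⟩ := H.mem_W_iff.1
      ((mem_normalizer_iff''.1 (H.act_normalizer hxy) _).1 (H.el_mem hi))
    calc n * x⁻¹ * el S i * (n * x⁻¹)⁻¹ = n * (x⁻¹ * el S i * x) * n⁻¹ := by group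
      _ = x * el S j * x⁻¹ := by rw [hji, H.act_spec hn hj, H.act_spec hxy hj]
      _ = el S i := by rw [← hji]; group
  obtain ⟨i, hi, he⟩ := H.mem_of_act_one (x := n * x⁻¹)
    ⟨by decide, by decide, by decide, by decide, key 1 (by decide), key 2 (by decide),
      key 4 (by decide), key 8 (by decide)⟩
  exact ⟨⟨i, hi⟩, by rw [← he, inv_mul_cancel_right]⟩

theorem ext_act {n m : G} {y : Mp} (hn : Act S n y) (hm : Act S m y) :
    ∃ i : Fin 16, n = el S i.val * m := by
  obtain ⟨i, hi⟩ := H.decomp hn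
  obtain ⟨j, hj⟩ := H.decomp hm
  refine ⟨⟨i.val ^^^ j.val, Nat.xor_lt_two_pow (n := 4) i.isLt j.isLt⟩, ?_⟩
  rw [H.el_xor i.isLt j.isLt, hi, hj]
  generalize H.rep _ = x
  rw [mul_assoc, ← mul_assoc (el S j.val), H.el_self j.isLt, one_mul]

/-- The normalizer of the subgroup of order sixteen is contained in that of the product of the
factors. -/
theorem normalizer_le : normalizer (S.W : Set G) ≤ normalizer (S.N : Set G) := by
  intro n hn
  obtain ⟨y, hy⟩ := H.act_exists hn
  obtain ⟨i, hi⟩ := H.decomp hy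
  rw [hi]
  have h1 : S.W ≤ normalizer (S.N : Set G) := by
    refine le_trans (sup_le_sup ?_ ?_) le_normalizer
    · refine (Subgroup.closure_le _).2 (Set.insert_subset ?_ (Set.singleton_subset_iff.2 ?_))
      · exact mem_map_of_mem _ ((L₁F_iff _).2 (vk_even 1))
      · exact mem_map_of_mem _ ((L₁F_iff _).2 (vk_even 2))
    · refine (Subgroup.closure_le _).2 (Set.insert_subset ?_ (Set.singleton_subset_iff.2 ?_))
      · exact mem_map_of_mem _ ((L₁F_iff _).2 (vk_even 1))
      · exact mem_map_of_mem _ ((L₁F_iff _).2 (vk_even 2))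
  exact mul_mem (h1 (H.el_mem i.isLt))
    ((sup_le H.range_le ((Subgroup.closure_le _).2 (Set.singleton_subset_iff.2 H.g_mem)))
      (H.rep_spec ⟨y, H.act_mem hy⟩).1)

theorem card_W : Nat.card S.W = 16 := by
  rw [← Nat.card_fin 16]
  refine (Nat.card_eq_of_bijective (fun i : Fin 16 => (⟨el S i.val, H.el_mem i.isLt⟩ : S.W))
    ⟨fun a b h => Fin.ext (H.el_inj a.isLt b.isLt (congrArg Subtype.val h)), fun x => ?_⟩).symm
  obtain ⟨i, hi, e⟩ := H.mem_W_iff.1 x.2
  exact ⟨⟨i, hi⟩, Subtype.ext e.symm⟩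

theorem card_normalizer_inf (K : Subgroup G) (L : List Mp) (hL : L.Sublist PM)
    (hW : S.W ≤ K) (hmem : ∀ n y, n ∈ K → Act S n y → y ∈ L)
    (hsurj : ∀ m : {m : Mp // m ∈ PM}, m.1 ∈ L → ∃ n ∈ K, Act S n m.1) :
    Nat.card ↥(normalizer (S.W : Set G) ⊓ K) = L.length * 16 := by
  classical
  have hsub : ∀ {m : Mp}, m ∈ L → m ∈ PM := fun h => hL.subset h
  let r : {m : Mp // m ∈ L.toFinset} → G := fun m =>
    (hsurj ⟨m.1, hsub (List.mem_toFinset.1 m.2)⟩ (List.mem_toFinset.1 m.2)).choose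
  have hr : ∀ m, r m ∈ K ∧ Act S (r m) m.1 := fun m =>
    (hsurj ⟨m.1, hsub (List.mem_toFinset.1 m.2)⟩ (List.mem_toFinset.1 m.2)).choose_spec
  have hcard : Nat.card ({m : Mp // m ∈ L.toFinset} × Fin 16) = L.length * 16 := by
    rw [Nat.card_prod, Nat.card_eq_fintype_card, Fintype.card_coe, Nat.card_fin,
      List.toFinset_card_of_nodup (PM_nodup.sublist hL)]
  rw [← hcard]
  refine (Nat.card_eq_of_bijective (fun p : {m : Mp // m ∈ L.toFinset} × Fin 16 =>
    (⟨el S p.2.val * r p.1, H.act_normalizer (H.act_el_mul (hr p.1).2 p.2.isLt),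
      mul_mem (hW (H.el_mem p.2.isLt)) (hr p.1).1⟩ : ↥(normalizer (S.W : Set G) ⊓ K))) ⟨?_, ?_⟩).symm
  · rintro ⟨m, i⟩ ⟨m', i'⟩ h
    have h' : el S i.val * r m = el S i'.val * r m' := congrArg Subtype.val h
    obtain rfl : m = m' := Subtype.ext (H.act_unique
      (H.act_el_mul (hr m).2 i.isLt) (h' ▸ H.act_el_mul (hr m').2 i'.isLt))
    exact Prod.ext rfl (Fin.ext (H.el_inj i.isLt i'.isLt (mul_right_cancel h')))
  · rintro ⟨n, hnW, hnK⟩
    obtain ⟨y, hy⟩ := H.act_exists hnW
    have hyL := hmem n y hnK hy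
    obtain ⟨i, hi⟩ := H.ext_act hy (hr ⟨y, List.mem_toFinset.2 hyL⟩).2
    exact ⟨(⟨y, List.mem_toFinset.2 hyL⟩, i), Subtype.ext hi.symm⟩

theorem card_normalizer : Nat.card ↥(normalizer (S.W : Set G)) = 576 := by
  have h := H.card_normalizer_inf (normalizer (S.W : Set G)) PM (List.Sublist.refl _)
    H.W_le_normalizer (fun n y _ hy => H.act_mem hy)
    (fun m _ => ⟨_, H.act_normalizer (H.rep_spec m).2, (H.rep_spec m).2⟩)
  rwa [inf_idem, PM_card] at h

/-- The subgroup is the only elementary abelian subgroup of its order in its normalizer. -/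
theorem eq_W {E : Subgroup G} (hle : E ≤ normalizer (S.W : Set G)) (hcard : Nat.card E = 16)
    (hsq : ∀ x ∈ E, x * x = 1) : E = S.W := by
  classical
  have hcomm : ∀ x ∈ E, ∀ y ∈ E, x * y = y * x := by
    intro x hx y hy
    have h := hsq _ (mul_mem hx hy)
    have hxi := inv_eq_of_mul_eq_one_right (hsq x hx)
    have hyi := inv_eq_of_mul_eq_one_right (hsq y hy)
    calc x * y = (x * y)⁻¹ := (inv_eq_of_mul_eq_one_right h).symm
      _ = y * x := by rw [mul_inv_rev, hxi, hyi]
  choose act hact using fun x : E => H.act_exists (hle x.2)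
  have hinv : ∀ x, cmp (act x) (act x) = oneM := fun x => by
    have h := H.act_mul (hact x) (hact x)
    rw [hsq _ x.2] at h
    exact H.act_unique h act_one
  have hcm : ∀ x y, cmp (act x) (act y) = cmp (act y) (act x) := fun x y => by
    have h := H.act_mul (hact x) (hact y)
    rw [hcomm _ x.2 _ y.2] at h
    exact H.act_unique h (H.act_mul (hact y) (hact x))
  refine Subgroup.eq_of_le_of_card_ge ?_ (by rw [H.card_W, hcard])
  by_contra hnot
  obtain ⟨x₀, hx₀, hxW⟩ := SetLike.not_le_iff_exists.1 hnot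
  have hmem : ∀ x : E, act x = oneM → (x : G) ∈ S.W := fun x hx => by
    obtain ⟨i, hi, e⟩ := H.mem_of_act_one (hx ▸ hact x)
    exact e ▸ H.el_mem hi
  have h₀ : act ⟨x₀, hx₀⟩ ≠ oneM := fun h => hxW (hmem _ h)
  -- the fibres are cosets of the intersection, which is fixed by all the maps
  let F : List Mp := (PM.filter fun w => decide (∃ x, act x = w))
  let J : Finset ℕ := (Finset.range 16).filter fun i => el S i ∈ E
  have hJ : ∀ i ∈ J, ∀ x : E, lin (act x) i = i := by
    intro i hi x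
    obtain ⟨hi16, hiE⟩ := Finset.mem_filter.1 hi
    have h16 := Finset.mem_range.1 hi16
    refine (H.el_inj h16 (lin_lt (hact x).lt1 (hact x).lt2 (hact x).lt4 (hact x).lt8 i) ?_).symm
    rw [← H.act_spec (hact x) h16, hcomm _ x.2 _ hiE, mul_inv_cancel_right]
  have hbound : Nat.card E ≤ F.toFinset.card * J.card := by
    rw [← Finset.card_product, ← Nat.card_eq_finsetCard]
    let c : E → E := fun x => Classical.epsilon fun y => act y = act x
    have hc : ∀ x, act (c x) = act x := fun x =>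
      Classical.epsilon_spec (p := fun y => act y = act x) ⟨x, rfl⟩
    have hd : ∀ x : E, ∃ i : Fin 16, (x : G) = el S i.val * (c x : G) := fun x =>
      H.ext_act (hact x) (hc x ▸ hact (c x))
    choose ix hix using hd
    have hin : ∀ x, (act x, (ix x).val) ∈ F.toFinset ×ˢ J := by
      intro x
      refine Finset.mem_product.2 ⟨List.mem_toFinset.2 (List.mem_filter.2
        ⟨H.act_mem (hact x), decide_eq_true ⟨x, rfl⟩⟩),
        Finset.mem_filter.2 ⟨Finset.mem_range.2 (ix x).isLt, ?_⟩⟩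
      have e : el S (ix x).val = (x : G) * (c x : G)⁻¹ := by rw [hix x, mul_inv_cancel_right]
      rw [e]
      exact mul_mem x.2 (inv_mem (c x).2)
    refine Nat.card_le_card_of_injective (fun x => (⟨_, hin x⟩ : ↥(F.toFinset ×ˢ J))) fun x y h => ?_
    obtain ⟨h1, h2⟩ := Prod.ext_iff.1 (Subtype.ext_iff.1 h)
    dsimp only at h1 h2
    have ec : c x = c y := by simp only [c, h1]
    refine Subtype.ext ?_
    rw [hix x, hix y, ec, Fin.ext h2]
  have hx := H.act_mem (hact ⟨x₀, hx₀⟩)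
  by_cases hex : ∃ x : E, act x ≠ oneM ∧ act x ≠ act ⟨x₀, hx₀⟩
  · obtain ⟨x, hx1, hx2⟩ := hex
    obtain ⟨-, h⟩ := invol_fix _ hx _ (H.act_mem (hact x)) (hinv _) (hinv _) h₀ hx1
    obtain ⟨hfix, hcnt⟩ := h hx2.symm (hcm _ _)
    have hJ2 : J.card ≤ 2 := by
      refine le_trans (Finset.card_le_card ?_) (le_trans (List.toFinset_card_le _) hfix)
      intro i hi
      refine List.mem_toFinset.2 (List.mem_filter.2 ⟨List.mem_range.2
        (Finset.mem_range.1 (Finset.mem_filter.1 hi).1), ?_⟩)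
      simp [hJ i hi]
    have hF : F.toFinset.card ≤ 4 := by
      refine le_trans (Finset.card_le_card ?_) (le_trans (List.toFinset_card_le _) hcnt)
      intro w hw
      obtain ⟨hwP, hw⟩ := List.mem_filter.1 (List.mem_toFinset.1 hw)
      obtain ⟨y, rfl⟩ := of_decide_eq_true hw
      refine List.mem_toFinset.2 (List.mem_filter.2 ⟨hwP, ?_⟩)
      simp [hinv, hcm y]
    have := Nat.mul_le_mul hF hJ2
    omega
  · simp only [not_exists, not_and, not_not] at hex
    obtain ⟨hfix, -⟩ := invol_fix _ hx _ hx (hinv _) (hinv _) h₀ h₀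
    have hJ4 : J.card ≤ 4 := by
      refine le_trans (Finset.card_le_card ?_) (le_trans (List.toFinset_card_le _) hfix)
      intro i hi
      refine List.mem_toFinset.2 (List.mem_filter.2 ⟨List.mem_range.2
        (Finset.mem_range.1 (Finset.mem_filter.1 hi).1), ?_⟩)
      simp [hJ i hi]
    have hF : F.toFinset.card ≤ 2 := by
      refine le_trans (Finset.card_le_card (t := {oneM, act ⟨x₀, hx₀⟩}) ?_) Finset.card_le_two
      intro w hw
      obtain ⟨y, rfl⟩ := of_decide_eq_true (List.mem_filter.1 (List.mem_toFinset.1 hw)).2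
      by_cases hy : act y = oneM
      · simp [hy]
      · simp [hex y hy]
    have := Nat.mul_le_mul hF hJ4
    omega

theorem conj_W_eq {n : G} (h : S.W.map (MulAut.conj n).toMonoidHom ≤ normalizer (S.W : Set G)) :
    n ∈ normalizer (S.W : Set G) :=
  mem_normalizer_iff_map_conj_eq.2 (H.eq_W h
    (by rw [Subgroup.card_map_of_injective (MulAut.conj n).injective, H.card_W])
    (by
      rintro - ⟨w, hw, rfl⟩
      obtain ⟨i, hi, rfl⟩ := H.mem_W_iff.1 hw
      rw [← map_mul, H.el_self hi, map_one]))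

theorem isPGroup_W : IsPGroup 2 S.W := IsPGroup.of_card (n := 4) (by rw [H.card_W]; rfl)

/-- There is a Sylow subgroup of order sixty-four normalizing the subgroup of order sixteen. -/
theorem exists_sylow : ∃ T : Sylow 2 G, Nat.card T = 64 ∧ S.W ≤ T ∧
    (T : Subgroup G) ≤ normalizer (S.W : Set G) := by
  obtain ⟨P, hP⟩ := IsPGroup.exists_le_sylow (H.isPGroup_W.comap_of_injective
    (normalizer (S.W : Set G)).subtype Subtype.coe_injective)
  have hP64 : Nat.card P = 64 := by
    rw [Sylow.card_eq_multiplicity, H.card_normalizer,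
      show (576 : ℕ) = 2 ^ 6 * 9 by norm_num,
      Nat.factorization_mul (by norm_num) (by norm_num), Nat.Prime.factorization_pow Nat.prime_two]
    rw [Finsupp.add_apply, Finsupp.single_eq_same,
      Nat.factorization_eq_zero_of_not_dvd (by norm_num)]
    norm_num
  set T := (P : Subgroup ↥(normalizer (S.W : Set G))).map (normalizer (S.W : Set G)).subtype with hT
  have hT64 : Nat.card T = 64 := by
    rw [hT, Subgroup.card_map_of_injective Subtype.coe_injective]; exact hP64
  have hTN : T ≤ normalizer (S.W : Set G) := Subgroup.map_subtype_le _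
  have hWT : S.W ≤ T := fun w hw =>
    ⟨⟨w, H.W_le_normalizer hw⟩, hP (show w ∈ S.W from hw), rfl⟩
  have hTp : IsPGroup 2 T := IsPGroup.of_card (n := 6) hT64
  obtain ⟨Q, hQ⟩ := hTp.exists_le_sylow
  have hQT : (Q : Subgroup G) = T := by
    by_contra hne
    have hlt : T < (Q : Subgroup G) := lt_of_le_of_ne hQ (Ne.symm hne)
    haveI : Group.IsNilpotent Q := Q.2.isNilpotent
    have hnorm := normalizerCondition_of_isNilpotent (G := Q) (T.subgroupOf Q) (lt_top_iff_ne_top.2
      fun h => hlt.not_ge (Subgroup.subgroupOf_eq_top.1 h))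
    obtain ⟨x, hx, hxT⟩ := SetLike.exists_of_lt hnorm
    have hxN : (x : G) ∈ normalizer (S.W : Set G) := by
      refine H.conj_W_eq ?_
      rintro - ⟨w, hw, rfl⟩
      refine hTN ?_
      exact (mem_normalizer_iff.1 hx ⟨w, hQ (hWT hw)⟩).1 (hWT hw)
    have hle : T ⊔ zpowers (x : G) ≤ normalizer (S.W : Set G) ⊓ (Q : Subgroup G) :=
      sup_le (le_inf hTN hQ) ((zpowers_le).2 ⟨hxN, x.2⟩)
    have hgt : T < normalizer (S.W : Set G) ⊓ (Q : Subgroup G) := lt_of_le_of_ne
      (le_trans le_sup_left hle) fun h => hxT (by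
        show (x : G) ∈ T
        rw [h]
        exact ⟨hxN, x.2⟩)
    obtain ⟨k, hk⟩ := (Q.2.to_le (inf_le_right (a := normalizer (S.W : Set G)))).exists_card_eq
    have h64 : 64 < 2 ^ k := by
      rw [← hk, ← hT64]
      exact lt_of_le_of_ne (Nat.le_of_dvd Nat.card_pos (card_dvd_of_le hgt.le)) fun h =>
        hgt.ne (Subgroup.eq_of_le_of_card_ge hgt.le h.ge)
    have hk7 : 7 ≤ k := by
      by_contra h7
      have : 2 ^ k ≤ 2 ^ 6 := Nat.pow_le_pow_right (by norm_num) (by omega)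
      omega
    have hd : 2 ^ 7 ∣ 576 := (pow_dvd_pow 2 hk7).trans
      (hk ▸ H.card_normalizer ▸ card_dvd_of_le inf_le_left)
    norm_num at hd
  exact ⟨Q, by rw [hQT]; exact hT64, hQT ▸ hWT, hQT ▸ hTN⟩

/-- A two-subgroup containing the subgroup of order sixteen normalizes it. -/
theorem two_group_le {T : Subgroup G} (hT : IsPGroup 2 T) (hW : S.W ≤ T) :
    T ≤ normalizer (S.W : Set G) := by
  haveI : Fact (Nat.Prime 2) := ⟨Nat.prime_two⟩
  obtain ⟨P, -, -, hPN⟩ := H.exists_sylow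
  obtain ⟨Q, hQ⟩ := hT.exists_le_sylow
  obtain ⟨h, rfl⟩ := MulAction.exists_smul_eq G P Q
  have hmem : ∀ q ∈ T, h⁻¹ * q * h ∈ normalizer (S.W : Set G) := by
    intro q hq
    have : q ∈ MulAut.conj h • (P : Subgroup G) := hQ hq
    rw [Subgroup.mem_pointwise_smul_iff_inv_smul_mem] at this
    exact hPN (by simpa using this)
  have hh : h⁻¹ ∈ normalizer (S.W : Set G) := by
    refine H.conj_W_eq ?_
    rintro - ⟨w, hw, rfl⟩
    simpa using hmem w (hW hw)
  intro q hq
  have := mul_mem (mul_mem (inv_mem hh) (hmem q hq)) hh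
  simpa [mul_assoc] using this

theorem not_dvd_128 : ¬ 128 ∣ Nat.card G := by
  haveI : Fact (Nat.Prime 2) := ⟨Nat.prime_two⟩
  intro hd
  obtain ⟨T, hT, -, -⟩ := H.exists_sylow
  have := T.card_eq_multiplicity
  rw [hT, show (64 : ℕ) = 2 ^ 6 by norm_num] at this
  have h6 := Nat.pow_right_injective (le_refl 2) this
  have h7 := (Nat.prime_two.pow_dvd_iff_le_factorization Nat.card_pos.ne').1
    (show 2 ^ 7 ∣ Nat.card G from hd)
  omega

/-- Fusion of pairs in the subgroup of order sixteen happens in its normalizer. -/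
theorem fusion {n : G} {i₁ i₂ : ℕ} (h1 : i₁ < 16) (h2 : i₂ < 16)
    (m1 : n * el S i₁ * n⁻¹ ∈ S.W) (m2 : n * el S i₂ * n⁻¹ ∈ S.W) :
    ∃ y ∈ PM, n * el S i₁ * n⁻¹ = el S (lin y i₁) ∧ n * el S i₂ * n⁻¹ = el S (lin y i₂) := by
  haveI : Fact (Nat.Prime 2) := ⟨Nat.prime_two⟩
  obtain ⟨j₁, hj₁, e1⟩ := H.mem_W_iff.1 m1
  obtain ⟨j₂, hj₂, e2⟩ := H.mem_W_iff.1 m2
  set C := centralizer ({el S j₁, el S j₂} : Set G) with hC
  have hWC : S.W ≤ C := by
    intro w hw y hy
    obtain ⟨i, hi, rfl⟩ := H.mem_W_iff.1 hw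
    rcases hy with rfl | rfl
    · exact H.el_comm hj₁ hi
    · exact H.el_comm hj₂ hi
  set W' := S.W.map (MulAut.conj n).toMonoidHom with hW'
  have hW'C : W' ≤ C := by
    rintro - ⟨w, hw, rfl⟩ y hy
    obtain ⟨i, hi, rfl⟩ := H.mem_W_iff.1 hw
    rcases hy with rfl | rfl
    · rw [← e1]; simp [← map_mul, H.el_comm h1 hi]
    · rw [← e2]; simp [← map_mul, H.el_comm h2 hi]
  obtain ⟨P, hP⟩ := IsPGroup.exists_le_sylow
    (H.isPGroup_W.comap_of_injective C.subtype Subtype.coe_injective)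
  have hp' : IsPGroup 2 W' := H.isPGroup_W.map _
  obtain ⟨Q, hQ⟩ := IsPGroup.exists_le_sylow
    (hp'.comap_of_injective C.subtype Subtype.coe_injective)
  obtain ⟨c, hc⟩ := MulAction.exists_smul_eq ↥C Q P
  have hT := H.two_group_le (T := (P : Subgroup ↥C).map C.subtype)
    (P.2.map _) (fun w hw => ⟨⟨w, hWC hw⟩, hP (show w ∈ S.W from hw), rfl⟩)
  have hcn : (c : G) * n ∈ normalizer (S.W : Set G) := by
    refine H.conj_W_eq ?_
    rintro - ⟨w, hw, rfl⟩
    have hwQ : (⟨n * w * n⁻¹, hW'C ⟨w, hw, rfl⟩⟩ : C) ∈ (Q : Subgroup ↥C) :=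
      hQ (show n * w * n⁻¹ ∈ W' from ⟨w, hw, rfl⟩)
    refine hT ⟨c * ⟨n * w * n⁻¹, hW'C ⟨w, hw, rfl⟩⟩ * c⁻¹, ?_, ?_⟩
    · rw [← hc]
      exact ⟨_, hwQ, rfl⟩
    · show (c : G) * (n * w * n⁻¹) * (c : G)⁻¹ = MulAut.conj ((c : G) * n) w
      rw [MulAut.conj_apply]
      group
  obtain ⟨y, hy⟩ := H.act_exists hcn
  refine ⟨y, H.act_mem hy, ?_, ?_⟩
  · have hcc : (c : G) * el S j₁ = el S j₁ * (c : G) := (c.2 _ (Or.inl rfl)).symm
    rw [← H.act_spec hy h1, e1]
    calc el S j₁ = (c : G) * el S j₁ * (c : G)⁻¹ := by rw [hcc, mul_inv_cancel_right]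
      _ = _ := by rw [← e1]; group
  · have hcc : (c : G) * el S j₂ = el S j₂ * (c : G) := (c.2 _ (Or.inr rfl)).symm
    rw [← H.act_spec hy h2, e2]
    calc el S j₂ = (c : G) * el S j₂ * (c : G)⁻¹ := by rw [hcc, mul_inv_cancel_right]
      _ = _ := by rw [← e2]; group

/-- An element of a factor is not conjugate to a mixed element. -/
theorem not_isConj_mixed {u v : Fin 4} (hu : u ≠ 0) (hv : v ≠ 0) :
    ¬ IsConj (S.ψ aF) (S.ψ (vk u) * S.φ (vk v)) := by
  intro h
  obtain ⟨n, hn⟩ := isConj_iff.1 h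
  have e : S.ψ (vk u) * S.φ (vk v) = el S (4 * u.val + v.val) := by
    rw [el, show (4 * u.val + v.val) / 4 = u.val by omega,
      show (4 * u.val + v.val) % 4 = v.val by omega]
  rw [← H.el_4, e] at hn
  have hm : n * el S 4 * n⁻¹ ∈ S.W := hn ▸ H.el_mem (by omega)
  obtain ⟨y, hy, h1, -⟩ := H.fusion (by norm_num) (by norm_num) hm hm
  have h4 := PM_pres y hy 4 (by decide)
  have hlt : lin y 4 < 16 := by
    have : ∀ y ∈ PM, lin y 4 < 16 := by decide +kernel
    exact this y hy
  rw [← H.el_inj (by omega) hlt (hn.symm.trans h1)] at h4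
  have : ∀ u v : Fin 4, u ≠ 0 → v ≠ 0 → (4 * u.val + v.val) ∉ AM := by decide +kernel
  exact this u v hu hv h4

end Hyp

end CfsgLib.SEightThree.WrLocal
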